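import Cfsg.Agent.Lib.LargeExtra.Basic
import Cfsg.Agent.Lib.CharP.Basic
import Cfsg.Agent.Lib.Coprime.PGroup

/-!
The centralizer of a non-central involution `t` of a large extraspecial group, modulo `⟨t⟩`.
-/

set_option autoImplicit false
set_option linter.unusedSectionVars false

namespace Cfsg.Agent.MonsterBaby

open Subgroup Cfsg.Agent.LargeExtra
open scoped commutatorElement

theorem zpowers_two {G : Type*} [Group G] {t x : G} (ht : t * t = 1) (hx : x ∈ zpowers t) :
    x = 1 ∨ x = t := by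
  obtain ⟨k, rfl⟩ := mem_zpowers_iff.1 hx
  have h2 : t ^ (2 : ℤ) = 1 := by rw [zpow_two]; exact ht
  obtain ⟨m, rfl⟩ | ⟨m, rfl⟩ := Int.even_or_odd k
  · left; rw [← two_mul, zpow_mul, h2, one_zpow]
  · right; rw [zpow_add, zpow_mul, h2, one_zpow, one_mul, zpow_one]

/-- An involution `t ≠ z` of `B` such that `z` is not conjugate to `z * t`. -/
structure InvData {G : Type*} [Group G] (B : Subgroup G) (z t : G) : Prop where
  h : Ctr B z
  tB : t ∈ B
  tt : t * t = 1
  t1 : t ≠ 1
  tz : t ≠ z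
  nconj : ¬ IsConj z (z * t)

variable {G : Type*} [Group G] [Finite G] {B : Subgroup G} {z t : G}

/-- The common centralizer. -/
abbrev DD (z t : G) : Subgroup G :=
  Subgroup.centralizer ({z} : Set G) ⊓ Subgroup.centralizer ({t} : Set G)

section

variable [hn : ((Subgroup.zpowers t).subgroupOf (Subgroup.centralizer ({t} : Set G))).Normal]

/-- The class of an element of the centralizer of `t`. -/
abbrev cl (x : Subgroup.centralizer ({t} : Set G)) :
    ↥(Subgroup.centralizer ({t} : Set G)) ⧸ (Subgroup.zpowers t).subgroupOf (Subgroup.centralizer ({t} : Set G)) :=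
  QuotientGroup.mk x

namespace InvData

variable (T : InvData B z t)
include T

theorem z_cent : z ∈ Subgroup.centralizer ({t} : Set G) :=
  mem_centralizer_singleton_iff.2 (T.h.comm T.tB).symm

theorem z_notMem : z ∉ zpowers t := fun h => by
  rcases zpowers_two T.tt h with h | h
  exacts [T.h.ne_one h, T.tz h.symm]

/-- The image of `z`. -/
abbrev zb : ↥(Subgroup.centralizer ({t} : Set G)) ⧸
    (Subgroup.zpowers t).subgroupOf (Subgroup.centralizer ({t} : Set G)) :=
  cl ⟨z, T.z_cent⟩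

theorem orderOf_zb : orderOf T.zb = 2 := by
  refine orderOf_eq_prime ?_ ?_
  · rw [pow_two]
    exact congrArg QuotientGroup.mk (Subtype.ext T.h.zz :
      (⟨z, T.z_cent⟩ : Subgroup.centralizer ({t} : Set G)) * ⟨z, T.z_cent⟩ = 1)
  · intro h
    rw [QuotientGroup.eq_one_iff, Subgroup.mem_subgroupOf] at h
    exact T.z_notMem h

/-- The map from the common centralizer. -/
def pi : DD z t →* Subgroup.centralizer ({T.zb} : Set _) where
  toFun d := ⟨cl ⟨d.1, (Subgroup.mem_inf.1 d.2).2⟩, mem_centralizer_singleton_iff.2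
    (congrArg QuotientGroup.mk (Subtype.ext (mem_centralizer_singleton_iff.1 (Subgroup.mem_inf.1 d.2).1) :
      (⟨d.1, (Subgroup.mem_inf.1 d.2).2⟩ : Subgroup.centralizer ({t} : Set G)) * ⟨z, T.z_cent⟩ =
        ⟨z, T.z_cent⟩ * ⟨d.1, (Subgroup.mem_inf.1 d.2).2⟩))⟩
  map_one' := Subtype.ext rfl
  map_mul' _ _ := Subtype.ext rfl

theorem pi_surjective : Function.Surjective T.pi := by
  rintro ⟨c, hc⟩
  obtain ⟨x, rfl⟩ := QuotientGroup.mk_surjective c
  rw [mem_centralizer_singleton_iff] at hc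
  have h0 := QuotientGroup.eq.1 (show (QuotientGroup.mk (⟨z, T.z_cent⟩ * x) : ↥(Subgroup.centralizer ({t} : Set G)) ⧸
    (Subgroup.zpowers t).subgroupOf (Subgroup.centralizer ({t} : Set G))) = QuotientGroup.mk (x * ⟨z, T.z_cent⟩) from
      hc.symm)
  rw [Subgroup.mem_subgroupOf] at h0
  have h1 : (z * (x : G))⁻¹ * ((x : G) * z) = 1 ∨ (z * (x : G))⁻¹ * ((x : G) * z) = t :=
    zpowers_two T.tt h0
  rw [inv_mul_eq_iff_eq_mul, inv_mul_eq_iff_eq_mul, mul_one] at h1
  rcases h1 with h | h
  · exact ⟨⟨x, Subgroup.mem_inf.2 ⟨mem_centralizer_singleton_iff.2 h, x.2⟩⟩, rfl⟩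
  · refine absurd (show IsConj z (z * t) from isConj_iff.2 ⟨x, ?_⟩) T.nconj
    have hxt : (x : G) * t = t * (x : G) := mem_centralizer_singleton_iff.1 x.2
    rw [h, mul_assoc z, hxt, ← mul_assoc, mul_inv_cancel_right]

theorem pi_eq_iff {d d' : DD z t} :
    T.pi d = T.pi d' ↔ (d' : G) = d ∨ (d' : G) = (d : G) * t := by
  rw [Subtype.ext_iff]
  show cl _ = cl _ ↔ _
  rw [QuotientGroup.eq, Subgroup.mem_subgroupOf]
  show (d : G)⁻¹ * (d' : G) ∈ zpowers t ↔ _
  constructor
  · intro h
    have := zpowers_two T.tt h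
    rwa [inv_mul_eq_iff_eq_mul, inv_mul_eq_iff_eq_mul, mul_one] at this
  · rintro (h | h)
    · rw [h, inv_mul_cancel]; exact one_mem _
    · rw [h, inv_mul_cancel_left]; exact mem_zpowers t

theorem pi_eq_one {d : DD z t} : T.pi d = 1 ↔ (d : G) = 1 ∨ (d : G) = t := by
  rw [← map_one T.pi, eq_comm, pi_eq_iff]
  simp

/-- The image of `B ∩ C(t)`. -/
def RR : Subgroup (Subgroup.centralizer ({T.zb} : Set _)) := (B.subgroupOf (DD z t)).map T.pi

theorem mem_RR {r : Subgroup.centralizer ({T.zb} : Set _)} :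
    r ∈ T.RR ↔ ∃ d : DD z t, (d : G) ∈ B ∧ T.pi d = r := Iff.rfl

theorem RR_normal : T.RR.Normal := by
  haveI : (B.subgroupOf (DD z t)).Normal :=
    ⟨fun b hb d => T.h.conj_mem (mem_centralizer_singleton_iff.1 (Subgroup.mem_inf.1 d.2).1) hb⟩
  exact Subgroup.Normal.map inferInstance _ T.pi_surjective

theorem card_BC : 2 * Nat.card (B.subgroupOf (DD z t)) = Nat.card B := by
  have hc : ∀ q : B, ⁅(q : G), t⁆ ∈ zpowers z := fun q => by
    rcases T.h.comm_cases q.2 T.tB with e | e <;> rw [e]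
    exacts [one_mem _, mem_zpowers z]
  let φ : B →* zpowers z := MonoidHom.mk' (fun q => ⟨⁅(q : G), t⁆, hc q⟩) fun a b => Subtype.ext (by
    show ⁅(a : G) * b, t⁆ = ⁅(a : G), t⁆ * ⁅(b : G), t⁆
    have h1 : ⁅(a : G) * b, t⁆ = (a : G) * ⁅(b : G), t⁆ * (a : G)⁻¹ * ⁅(a : G), t⁆ := by
      simp only [commutatorElement_def]; group
    rcases T.h.comm_cases b.2 T.tB with e | e <;> rcases T.h.comm_cases a.2 T.tB with e' | e' <;>
      rw [h1, e, e'] <;> simp [T.h.conj_z a.2, T.h.zz])
  obtain ⟨q, hq, hqt⟩ : ∃ q ∈ B, ⁅q, t⁆ = z := by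
    by_contra hno
    push Not at hno
    have : t ∈ centralizer (B : Set G) := mem_centralizer_iff.2 fun x hx =>
      commutatorElement_eq_one_iff_mul_comm.1 ((T.h.comm_cases hx T.tB).resolve_right (hno x hx))
    rw [T.h.cent] at this
    rcases T.h.mem_zpowers_cases this with e | e
    exacts [T.t1 e, T.tz e]
  have hsurj : Function.Surjective φ := by
    rintro ⟨x, hx⟩
    rcases T.h.mem_zpowers_cases hx with rfl | rfl
    · exact ⟨1, map_one φ⟩
    · exact ⟨⟨q, hq⟩, Subtype.ext hqt⟩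
  have h2 := φ.ker.card_mul_index
  rw [Subgroup.index_ker, MonoidHom.range_eq_top.2 hsurj, Subgroup.card_top, Nat.card_zpowers, T.h.two] at h2
  have h3 : Nat.card φ.ker = Nat.card (B.subgroupOf (DD z t)) := by
    refine Nat.card_congr
      { toFun := fun q => ⟨⟨q.1.1, Subgroup.mem_inf.2 ⟨T.h.le_centralizer q.1.2,
          mem_centralizer_singleton_iff.2 (commutatorElement_eq_one_iff_mul_comm.1
            (congrArg Subtype.val (q.2 : φ q.1 = 1)))⟩⟩, q.1.2⟩
        invFun := fun d => ⟨⟨d.1.1, d.2⟩, Subtype.ext (commutatorElement_eq_one_iff_mul_comm.2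
          (mem_centralizer_singleton_iff.1 (Subgroup.mem_inf.1 d.1.2).2))⟩
        left_inv := fun _ => rfl
        right_inv := fun _ => rfl }
  omega

theorem card_RR : 4 * Nat.card T.RR = Nat.card B := by
  have h2 : T.pi.ker.relIndex (B.subgroupOf (DD z t)) = Nat.card T.RR := by
    rw [Subgroup.relIndex_ker]; rfl
  have hle : T.pi.ker ≤ B.subgroupOf (DD z t) := fun d hd => by
    show (d : G) ∈ B
    rcases T.pi_eq_one.1 hd with h | h <;> rw [h]
    exacts [one_mem _, T.tB]
  have hker : Nat.card T.pi.ker = 2 := by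
    rw [Nat.card_eq_two_iff' 1]
    refine ⟨⟨⟨t, Subgroup.mem_inf.2 ⟨T.h.le_centralizer T.tB, mem_centralizer_singleton_iff.2 rfl⟩⟩,
      T.pi_eq_one.2 (Or.inr rfl)⟩, fun h => T.t1 (congrArg (fun u : T.pi.ker => ((u : DD z t) : G)) h), ?_⟩
    rintro ⟨d, hd⟩ hd1
    rcases T.pi_eq_one.1 hd with h | h
    · exact absurd (Subtype.ext (Subtype.ext h)) hd1
    · exact Subtype.ext (Subtype.ext h)
  have h1 := Subgroup.card_mul_index (T.pi.ker.subgroupOf (B.subgroupOf (DD z t)))
  rw [Nat.card_congr (Subgroup.subgroupOfEquivOfLe hle).toEquiv, hker] at h1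
  rw [Subgroup.relIndex] at h2
  have := T.card_BC
  rw [h2] at h1
  omega

/-- The elements of `B ∩ C(t)` commuting with all of `B ∩ C(t)`. -/
theorem cent_cases {q : G} (hq : q ∈ B) (hqt : q * t = t * q)
    (hall : ∀ u ∈ B, u * t = t * u → u * q = q * u) :
    q = 1 ∨ q = z ∨ q = t ∨ q = z * t := by
  have key : ∀ w ∈ B, (∀ u ∈ B, u * t = t * u → u * w = w * u) →
      ∀ x ∈ B, ⁅x, t⁆ = z → x * w = w * x → w = 1 ∨ w = z := by
    intro w hw hwc x hx hxt hxw
    have : w ∈ centralizer (B : Set G) := by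
      rw [mem_centralizer_iff]
      intro u hu
      rcases T.h.comm_cases hu T.tB with e | e
      · exact hwc u hu (commutatorElement_eq_one_iff_mul_comm.1 e)
      · have hm : (x⁻¹ * u) * t = t * (x⁻¹ * u) := by
          have e1 : u * t * u⁻¹ = z * t := mul_inv_eq_iff_eq_mul.1 e
          have e2 : x * t * x⁻¹ = z * t := mul_inv_eq_iff_eq_mul.1 hxt
          calc (x⁻¹ * u) * t = x⁻¹ * (u * t * u⁻¹) * u := by group
            _ = x⁻¹ * (x * t * x⁻¹) * u := by rw [e1, e2]
            _ = t * (x⁻¹ * u) := by group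
        have := hwc _ (mul_mem (inv_mem hx) hu) hm
        calc u * w = x * ((x⁻¹ * u) * w) := by group
          _ = x * w * (x⁻¹ * u) := by rw [this, mul_assoc x w]
          _ = w * u := by rw [hxw]; group
    rw [T.h.cent] at this
    exact T.h.mem_zpowers_cases this
  by_cases hex : ∃ x ∈ B, ⁅x, t⁆ = z
  swap
  · push Not at hex
    have : t ∈ centralizer (B : Set G) := mem_centralizer_iff.2 fun x hx =>
      commutatorElement_eq_one_iff_mul_comm.1 ((T.h.comm_cases hx T.tB).resolve_right (hex x hx))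
    rw [T.h.cent] at this
    rcases T.h.mem_zpowers_cases this with e | e
    exacts [absurd e T.t1, absurd e T.tz]
  obtain ⟨x, hx, hxt⟩ := hex
  rcases T.h.comm_cases hx hq with e | e
  · rcases key q hq hall x hx hxt (commutatorElement_eq_one_iff_mul_comm.1 e) with h | h
    exacts [Or.inl h, Or.inr (Or.inl h)]
  · have e1 : x * q * x⁻¹ = z * q := mul_inv_eq_iff_eq_mul.1 e
    have e2 : x * t * x⁻¹ = z * t := mul_inv_eq_iff_eq_mul.1 hxt
    have hc : x * (q * t) = (q * t) * x := by
      rw [← mul_inv_eq_iff_eq_mul]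
      calc x * (q * t) * x⁻¹ = (x * q * x⁻¹) * (x * t * x⁻¹) := by group
        _ = z * (q * z) * t := by rw [e1, e2]; group
        _ = q * t := by rw [T.h.comm hq, ← mul_assoc z z, T.h.zz, one_mul]
    have hall' : ∀ u ∈ B, u * t = t * u → u * (q * t) = q * t * u := fun u hu hut => by
      rw [← mul_assoc, hall u hu hut, mul_assoc, hut, mul_assoc]
    rcases key _ (mul_mem hq T.tB) hall' x hx hxt hc with h | h
    · right; right; left
      calc q = q * (t * t) := by rw [T.tt, mul_one]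
        _ = t := by rw [← mul_assoc, h, one_mul]
    · right; right; right
      calc q = q * (t * t) := by rw [T.tt, mul_one]
        _ = z * t := by rw [← mul_assoc, h]

theorem comm_RR {d d' : DD z t} (hd : (d : G) ∈ B) (hd' : (d' : G) ∈ B) :
    T.pi d * T.pi d' = T.pi d' * T.pi d ↔ (d : G) * d' = (d' : G) * d := by
  refine ⟨fun h => ?_, fun h => by rw [← map_mul, ← map_mul, show d * d' = d' * d from Subtype.ext h]⟩
  rw [← map_mul, ← map_mul, T.pi_eq_iff] at h
  rcases h with h | h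
  · exact h.symm
  · exfalso
    have hc : ⁅(d' : G), (d : G)⁆ = z → False := fun e => by
      have : (d' : G) * d = z * ((d : G) * d') := by
        have e1 : (d' : G) * d = ⁅(d' : G), (d : G)⁆ * ((d : G) * d') := by
          rw [commutatorElement_def]; group
        rwa [e] at e1
      rw [show ((d' * d : DD z t) : G) = (d' : G) * d from rfl, this,
        show ((d * d' : DD z t) : G) = (d : G) * d' from rfl] at h
      have hdt : (d : G) * d' * t = t * ((d : G) * d') :=
        mem_centralizer_singleton_iff.1 (Subgroup.mem_inf.1 (mul_mem d.2 d'.2)).2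
      exact T.tz (mul_right_cancel (hdt.symm.trans h.symm))
    rcases T.h.comm_cases hd' hd with e | e
    · have e' := commutatorElement_eq_one_iff_mul_comm.1 e
      rw [show ((d' * d : DD z t) : G) = (d' : G) * d from rfl, e',
        show ((d * d' : DD z t) : G) = (d : G) * d' from rfl] at h
      exact T.t1 (mul_eq_left.1 h.symm)
    · exact hc e

theorem mem_center_RR {r : T.RR} :
    r ∈ Subgroup.center T.RR ↔ (r : Subgroup.centralizer ({T.zb} : Set _)) = 1 ∨
      ((r : Subgroup.centralizer ({T.zb} : Set _)) : ↥(Subgroup.centralizer ({t} : Set G)) ⧸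
        (Subgroup.zpowers t).subgroupOf (Subgroup.centralizer ({t} : Set G))) = T.zb := by
  obtain ⟨d, hd, hr⟩ := T.mem_RR.1 r.2
  constructor
  · intro hc
    have hall : ∀ u ∈ B, u * t = t * u → u * (d : G) = (d : G) * u := by
      intro u hu hut
      let d' : DD z t := ⟨u, Subgroup.mem_inf.2 ⟨T.h.le_centralizer hu, mem_centralizer_singleton_iff.2 hut⟩⟩
      refine (T.comm_RR (d := d') hu hd).1 ?_
      have := congrArg Subtype.val (Subgroup.mem_center_iff.1 hc ⟨T.pi d', T.mem_RR.2 ⟨d', hu, rfl⟩⟩)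
      rw [hr]; exact this
    rcases T.cent_cases hd (mem_centralizer_singleton_iff.1 (Subgroup.mem_inf.1 d.2).2) hall with
      e | e | e | e
    · exact Or.inl (hr ▸ T.pi_eq_one.2 (Or.inl e))
    · right
      rw [← hr]
      exact congrArg QuotientGroup.mk (Subtype.ext e)
    · exact Or.inl (hr ▸ T.pi_eq_one.2 (Or.inr e))
    · right
      rw [← hr]
      let d₀ : DD z t := ⟨z, Subgroup.mem_inf.2 ⟨mem_centralizer_singleton_iff.2 rfl, T.z_cent⟩⟩
      exact congrArg Subtype.val ((T.pi_eq_iff (d := d₀) (d' := d)).2 (Or.inr e)).symm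
  · intro h
    refine Subgroup.mem_center_iff.2 fun x => Subtype.ext (Subtype.ext ?_)
    rcases h with h | h
    · show x.1.1 * r.1.1 = r.1.1 * x.1.1
      rw [h]; simp
    · show x.1.1 * r.1.1 = r.1.1 * x.1.1
      rw [h]
      exact mem_centralizer_singleton_iff.1 x.1.2

theorem extra_RR {n : ℕ} (hn' : 1 ≤ n) (hcard : Nat.card B = 2 ^ (2 * n + 3)) :
    Cfsg.IsExtraspecial 2 T.RR ∧ Nat.card T.RR = 2 ^ (2 * n + 1) := by
  haveI : Fact (Nat.Prime 2) := ⟨Nat.prime_two⟩
  have hR : Nat.card T.RR = 2 ^ (2 * n + 1) := by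
    have := T.card_RR
    rw [hcard, show 2 ^ (2 * n + 3) = 4 * 2 ^ (2 * n + 1) by ring] at this
    omega
  have hp : IsPGroup 2 T.RR := IsPGroup.of_card hR
  let d₀ : DD z t := ⟨z, Subgroup.mem_inf.2 ⟨mem_centralizer_singleton_iff.2 rfl, T.z_cent⟩⟩
  let r₀ : T.RR := ⟨T.pi d₀, T.mem_RR.2 ⟨d₀, T.h.z_mem, rfl⟩⟩
  have hr₀ : r₀ ∈ Subgroup.center T.RR := T.mem_center_RR.2 (Or.inr rfl)
  have hcases : ∀ r ∈ Subgroup.center T.RR, r = 1 ∨ r = r₀ := fun r hr => by
    rcases T.mem_center_RR.1 hr with h | h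
    · exact Or.inl (Subtype.ext h)
    · exact Or.inr (Subtype.ext (Subtype.ext h))
  have hne : r₀ ≠ 1 := fun h => by
    rcases T.pi_eq_one.1 (congrArg Subtype.val h) with e | e
    exacts [T.h.ne_one e, T.tz e.symm]
  have hcen : Nat.card (Subgroup.center T.RR) = 2 := by
    rw [Nat.card_eq_two_iff' 1]
    refine ⟨⟨r₀, hr₀⟩, fun h => hne (congrArg Subtype.val h), ?_⟩
    rintro ⟨r, hr⟩ hr1
    rcases hcases r hr with h | h
    · exact absurd (Subtype.ext h) hr1
    · exact Subtype.ext h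
  have hcomm : ∀ r r' : T.RR, ⁅r, r'⁆ ∈ Subgroup.center T.RR := by
    intro r r'
    obtain ⟨d, hd, hr⟩ := T.mem_RR.1 r.2
    obtain ⟨d', hd', hr'⟩ := T.mem_RR.1 r'.2
    refine T.mem_center_RR.2 ?_
    have hv : ((⁅r, r'⁆ : T.RR) : Subgroup.centralizer ({T.zb} : Set _)) = T.pi ⁅d, d'⁆ := by
      rw [map_commutatorElement, hr, hr']; rfl
    rcases T.h.comm_cases hd hd' with e | e
    · left; rw [hv]; exact T.pi_eq_one.2 (Or.inl e)
    · right; rw [hv]; exact congrArg QuotientGroup.mk (Subtype.ext e)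
  have hsq : ∀ r : T.RR, r * r ∈ Subgroup.center T.RR := by
    intro r
    obtain ⟨d, hd, hr⟩ := T.mem_RR.1 r.2
    refine T.mem_center_RR.2 ?_
    have hv : ((r * r : T.RR) : Subgroup.centralizer ({T.zb} : Set _)) = T.pi (d * d) := by
      rw [map_mul, hr]; rfl
    rcases T.h.sq_cases hd with e | e
    · left; rw [hv]; exact T.pi_eq_one.2 (Or.inl e)
    · right; rw [hv]; exact congrArg QuotientGroup.mk (Subtype.ext e)
  have hcm : commutator T.RR = Subgroup.center T.RR := by
    refine le_antisymm ?_ ?_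
    · rw [_root_.commutator_def, Subgroup.commutator_le]
      exact fun a _ b _ => hcomm a b
    · intro r hr
      rcases hcases r hr with rfl | rfl
      · exact one_mem _
      · by_contra hno
        have htop : Subgroup.center T.RR = ⊤ := eq_top_iff.2 fun a _ => Subgroup.mem_center_iff.2 fun b => by
          rcases hcases _ (hcomm b a) with e | e
          · exact commutatorElement_eq_one_iff_mul_comm.1 e
          · exact absurd (e ▸ commutator_mem_commutator (mem_top b) (mem_top a)) hno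
        rw [htop, Subgroup.card_top, hR] at hcen
        have : (2 : ℕ) ^ 3 ≤ 2 ^ (2 * n + 1) := Nat.pow_le_pow_right (by norm_num) (by omega)
        omega
  refine ⟨⟨⟨hp, ?_, hcm⟩, hcen⟩, hR⟩
  refine le_antisymm ?_ ?_
  · have := Cfsg.Agent.CharP.frattini_le_ker (p := 2) (QuotientGroup.mk' (Subgroup.center T.RR))
      (fun a b => ?_) fun a => ?_
    · rwa [QuotientGroup.ker_mk'] at this
    · rw [← commutatorElement_eq_one_iff_commute, ← map_commutatorElement]
      exact (QuotientGroup.eq_one_iff _).2 (hcomm a b)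
    · rw [← map_pow, pow_two]
      exact (QuotientGroup.eq_one_iff _).2 (hsq a)
  · rw [← hcm]
    haveI := hp.isNilpotent
    exact Cfsg.Agent.Coprime.commutator_le_frattini _

end InvData

end

end Cfsg.Agent.MonsterBaby
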