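import Cfsg.Agent.Lib.LargeExtra.MonsterBaby.Move
import Cfsg.Agent.Lib.LargeExtra.MonsterBaby.Quot
import Cfsg.Agent.Lib.CharP.CharP

/-!
The centralizer of an involution of type 32 modulo the involution, in the Monster-type setting.
-/

set_option autoImplicit false
set_option linter.unusedSectionVars false

namespace Cfsg.Agent.MonsterBaby

open Subgroup Cfsg.Agent.LargeExtra Cfsg.Agent.Leech.Classes Cfsg.Agent.Leech.Mod2
  Cfsg.Agent.CharP.LeechForm Cfsg.Agent.MonsterOrbits Cfsg.Agent.MonsterPair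
  Cfsg.Agent.LeechAut.Cross Cfsg.Agent.LeechAut.Basic
open scoped commutatorElement

theorem leechU_eq : Cfsg.Spor.leechU = U none (some 0) := by
  refine Subtype.ext (funext fun i => ?_)
  show Cfsg.Spor.vecU i = _
  rw [U_apply]
  revert i
  decide

theorem sqNorm_leechU : Cfsg.sqNorm (Cfsg.Spor.leechU : Cfsg.GolayPt → ℤ) = 32 := by
  rw [leechU_eq]; exact Lattice.sqNorm_U (by simp)

theorem co2_simple : IsSimpleGroup ↥Cfsg.Spor.Co2 ∧ 23 ∣ Nat.card ↥Cfsg.Spor.Co2 := by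
  let E0 : ↥Cfsg.Spor.Co2 ≃* MulAction.stabilizer Cfsg.Co0 Cfsg.Spor.leechU :=
    { toFun := fun a => ⟨⟨a.1, a.2.1⟩, a.2.2⟩
      invFun := fun a => ⟨a.1.1, a.1.2, a.2⟩
      left_inv := fun _ => rfl
      right_inv := fun _ => rfl
      map_mul' := fun _ _ => rfl }
  obtain ⟨hs, hc⟩ := Cfsg.Agent.LeechAut.Conway23.isCo2 _ sqNorm_leechU
  refine ⟨E0.isSimpleGroup_congr.2 hs, ?_⟩
  rw [Nat.card_congr E0.toEquiv, hc]
  norm_num

/-- The inclusion of the second Conway group into the lattice automorphism group. -/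
def incl : ↥Cfsg.Spor.Co2 →* ↥Cfsg.Co0 where
  toFun a := ⟨a.1, a.2.1⟩
  map_one' := rfl
  map_mul' _ _ := rfl

/-- The inclusion of the second Conway group into the simple quotient. -/
def toCo1' : ↥Cfsg.Spor.Co2 →* Cfsg.Spor.Co1 :=
  toCo1.comp incl

theorem toCo1'_injective : Function.Injective toCo1' := by
  rw [injective_iff_map_eq_one]
  intro k hk
  rcases center_eq _ ((QuotientGroup.eq_one_iff _).1 hk) with h | h
  · exact Subtype.ext (congrArg (fun x : Cfsg.Co0 => (x : Equiv.Perm Cfsg.leechLattice)) h)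
  · exfalso
    have hfix : (incl k) • Cfsg.Spor.leechU =
        Cfsg.Spor.leechU := k.2.2
    rw [h, negOne_smul] at hfix
    exact absurd (congrFun (congrArg Subtype.val hfix) none) (by decide)

theorem toCo1'_range : toCo1'.range = (clsStab Cfsg.Spor.leechU).map toCo1 := by
  apply le_antisymm
  · rintro _ ⟨k, rfl⟩
    exact ⟨incl k, congrArg cls (show incl k • Cfsg.Spor.leechU = Cfsg.Spor.leechU from k.2.2), rfl⟩
  · rintro _ ⟨k, hk, rfl⟩
    have hn := sqNorm_leechU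
    rcases short_eq_of_cls leech_shells (x := Cfsg.Spor.leechU) (y := k • Cfsg.Spor.leechU)
      (by rw [lform_self]; omega) (by rw [lform_self, sqNorm_smul]; omega) hk with h | h
    · exact ⟨⟨k.1, Subgroup.mem_inf.2 ⟨k.2, h⟩⟩, rfl⟩
    · have h' : (negOne * k) • Cfsg.Spor.leechU = Cfsg.Spor.leechU := by
        rw [mul_smul, h, negOne_smul, neg_neg]
      refine ⟨⟨(negOne * k).1, Subgroup.mem_inf.2 ⟨(negOne * k).2, h'⟩⟩, ?_⟩
      show toCo1 (negOne * k) = toCo1 k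
      rw [map_mul, show toCo1 negOne = 1 from (QuotientGroup.eq_one_iff _).2 negOne_central, one_mul]

/-- An element of the stabiliser of `u` moving a vector orthogonal to `u` out of its class. -/
theorem exists_moved : ∃ (g : ↥Cfsg.Spor.Co2) (x y : Cfsg.leechPerpU),
    g • (x : Cfsg.leechLattice) = (y : Cfsg.leechLattice) ∧
    cls ((y : Cfsg.leechLattice) - x) ≠ cls 0 ∧
    cls ((y : Cfsg.leechLattice) - x) ≠ cls Cfsg.Spor.leechU := by
  obtain ⟨g, hg⟩ := perm_U (by norm_num : 4 ≤ 5)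
    (![none, some 0, some 1, some 3] : Fin 4 → Cfsg.GolayPt) ![none, some 0, some 2, some 3]
    (by decide) (by decide)
  have h01 : g • U none (some 0) = U none (some 0) := hg 0 1
  have h23 : g • U (some 1) (some 3) = U (some 2) (some 3) := hg 2 3
  have hperp : ∀ a b : Cfsg.GolayPt, a ≠ none → a ≠ some 0 → b ≠ none → b ≠ some 0 →
      U a b ∈ Cfsg.leechPerpU := by
    intro a b h1 h2 h3 h4
    show (16 : ℤ) ∣ Cfsg.dotInt (U a b : Cfsg.GolayPt → ℤ) (Cfsg.Spor.leechU : Cfsg.GolayPt → ℤ)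
    rw [leechU_eq, Lattice.dot_U, U_apply, U_apply]
    simp [h1.symm, h2.symm, h3.symm, h4.symm]
  refine ⟨⟨g.1, Subgroup.mem_inf.2 ⟨g.2, show g • Cfsg.Spor.leechU = Cfsg.Spor.leechU by
      rw [leechU_eq]; exact h01⟩⟩,
    ⟨U (some 1) (some 3), hperp _ _ (by decide) (by decide) (by decide) (by decide)⟩,
    ⟨U (some 2) (some 3), hperp _ _ (by decide) (by decide) (by decide) (by decide)⟩, h23, ?_, ?_⟩
  all_goals
    intro h
    have hd : Cfsg.sqNorm ((U (some 2) (some 3) - U (some 1) (some 3) : Cfsg.leechLattice) :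
        Cfsg.GolayPt → ℤ) = 32 := by decide +kernel
  · rcases short_eq_of_cls leech_shells (x := U (some 2) (some 3) - U (some 1) (some 3)) (y := 0)
      (by rw [lform_self, hd]; norm_num) (by rw [lform_self]; simp [Cfsg.sqNorm]) h.symm with e | e
    all_goals exact absurd (congrFun (congrArg Subtype.val e) (some 2)) (by decide +kernel)
  · rcases short_eq_of_cls leech_shells (x := U (some 2) (some 3) - U (some 1) (some 3))
      (y := Cfsg.Spor.leechU) (by rw [lform_self, hd]; norm_num)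
      (by rw [lform_self, sqNorm_leechU]; norm_num) h.symm with e | e
    all_goals exact absurd (congrFun (congrArg Subtype.val e) none) (by decide +kernel)

variable {G : Type*} [Group G] [Finite G] {z : G}
  {Q : Subgroup (Subgroup.centralizer ({z} : Set G))} [Q.Normal]
  {e : (Subgroup.centralizer ({z} : Set G)) ⧸ Q ≃* Cfsg.Spor.Co1}
  {ψ : Cfsg.leechLattice → Q ⧸ Subgroup.center Q}

/-- An involution of type 32 commutes with an element moving `z` inside `Q`. -/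
theorem exists_mover (hS : Cfsg.IsExtraspecialCentralizerSetting z Q 12)
    (hψ : Cfsg.IsLeechModTwoIso Q e ψ) {x : Q} (hx : Ty ψ x 32) :
    ∃ h : G, h * val x * h⁻¹ = val x ∧ h * z * h⁻¹ ∈ bigQ Q ∧ h * z * h⁻¹ ≠ z ∧
      (h * z * h⁻¹) * val x = val x * (h * z * h⁻¹) := by
  obtain ⟨x₀, hx₀, h, h1, h2, h3, h4⟩ := exists_move hS hψ
  obtain ⟨c, hc, hce⟩ := conj_of_ty hS hψ (Or.inl rfl) hx₀ hx
  replace hce : c * val x₀ * c⁻¹ = val x := hce
  have hcz := mem_centralizer_singleton_iff.1 hc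
  have hczi : c⁻¹ * z * c = z := by rw [mul_assoc, ← hcz, inv_mul_cancel_left]
  have key : c * h * c⁻¹ * z * (c * h * c⁻¹)⁻¹ = c * (h * z * h⁻¹) * c⁻¹ := by
    calc c * h * c⁻¹ * z * (c * h * c⁻¹)⁻¹ = c * (h * (c⁻¹ * z * c) * h⁻¹) * c⁻¹ := by group
      _ = _ := by rw [hczi]
  refine ⟨c * h * c⁻¹, ?_, ?_, ?_, ?_⟩
  · rw [← hce]
    calc c * h * c⁻¹ * (c * val x₀ * c⁻¹) * (c * h * c⁻¹)⁻¹
        = c * (h * val x₀ * h⁻¹) * c⁻¹ := by group
      _ = _ := by rw [h1]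
  · rw [key]; exact (ctr_bigQ hS).conj_mem hcz h2
  · rw [key]
    intro h0
    apply h3
    calc h * z * h⁻¹ = c⁻¹ * (c * (h * z * h⁻¹) * c⁻¹) * c := by group
      _ = z := by rw [h0, hczi]
  · rw [key, ← hce]
    calc c * (h * z * h⁻¹) * c⁻¹ * (c * val x₀ * c⁻¹) = c * ((h * z * h⁻¹) * val x₀) * c⁻¹ := by group
      _ = _ := by rw [h4]; group

/-- The quotient of the centralizer of an involution of type 32 is of Baby Monster type. -/
theorem baby (hS : Cfsg.IsExtraspecialCentralizerSetting z Q 12) (hψ : Cfsg.IsLeechModTwoIso Q e ψ)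
    {t : G} {x : Q} (hxt : val x = t) (hty : Ty ψ x 32) (ht2 : t * t = 1) (ht1 : t ≠ 1)
    (hnc : ¬ IsConj z t)
    [hn : ((Subgroup.zpowers t).subgroupOf (Subgroup.centralizer ({t} : Set G))).Normal] :
    Cfsg.IsOfBabyMonsterType
      (↥(Subgroup.centralizer ({t} : Set G)) ⧸ (Subgroup.zpowers t).subgroupOf (Subgroup.centralizer ({t} : Set G))) := by
  classical
  have hB := ctr_bigQ hS
  have htB : t ∈ bigQ Q := hxt ▸ val_mem x
  have htz : t ≠ z := fun h => hnc (h ▸ IsConj.refl z)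
  have hnconj : ¬ IsConj z (z * t) := fun h => by
    obtain ⟨q, -, hq⟩ := exists_swap hS htB ht1 htz
    exact hnc (h.trans (hq ▸ (isConj_iff.2 ⟨q, rfl⟩ : IsConj t (q * t * q⁻¹))).symm)
  have T : InvData (bigQ Q) z t := ⟨hB, htB, ht2, ht1, htz, hnconj⟩
  obtain ⟨hm, hm1, hm2, hm3, hm4⟩ := exists_mover hS hψ hty
  rw [hxt] at hm1 hm4
  -- normalise the identification
  obtain ⟨v, hv, hvx⟩ := hty
  obtain ⟨g₀, hg₀⟩ := Cfsg.Agent.LeechAut.Shells.transitive32 v Cfsg.Spor.leechU hv sqNorm_leechU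
  have hψ' := twist hψ g₀
  set e' := e.trans (MulAut.conj (toCo1 g₀))
  set ψ' : Cfsg.leechLattice → Q ⧸ Subgroup.center Q := fun u => ψ (g₀⁻¹ • u)
  have hu : ψ' Cfsg.Spor.leechU = QuotientGroup.mk x := by
    show ψ (g₀⁻¹ • Cfsg.Spor.leechU) = _
    rw [← hg₀, inv_smul_smul, hvx]
  have hxc : x ∉ Subgroup.center Q := Ty.notMem_center hψ ⟨v, hv, hvx⟩ (by norm_num) (by norm_num)
  have hX : (imgC Q t).map e'.toMonoidHom = (clsStab Cfsg.Spor.leechU).map toCo1 := by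
    rw [← hxt]; exact imgC_eq hS hψ' hxc hu
  -- the map onto the second Conway group
  let ι : DD z t →* Subgroup.centralizer ({z} : Set G) := Subgroup.inclusion inf_le_left
  let φ : DD z t →* Cfsg.Spor.Co1 :=
    e'.toMonoidHom.comp ((QuotientGroup.mk' Q).comp ι)
  have hφmem : ∀ d, φ d ∈ toCo1'.range := fun d => by
    rw [toCo1'_range, ← hX]
    exact ⟨_, ⟨ι d, Subgroup.mem_subgroupOf.2 d.2, rfl⟩, rfl⟩
  let θ₀ : DD z t →* ↥Cfsg.Spor.Co2 :=
    (MonoidHom.ofInjective toCo1'_injective).symm.toMonoidHom.comp (φ.codRestrict _ hφmem)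
  have hθ₀ : ∀ d, toCo1' (θ₀ d) = φ d := fun d =>
    congrArg Subtype.val ((MonoidHom.ofInjective toCo1'_injective).apply_symm_apply ⟨φ d, hφmem d⟩)
  have hθ₀one : ∀ d, θ₀ d = 1 ↔ (d : G) ∈ bigQ Q := fun d => by
    rw [← toCo1'_injective.eq_iff, hθ₀, map_one]
    show e' (QuotientGroup.mk (ι d)) = 1 ↔ _
    rw [EmbeddingLike.map_eq_one_iff, QuotientGroup.eq_one_iff]
    refine ⟨fun h => ⟨_, h, rfl⟩, fun h => ?_⟩
    obtain ⟨hc, hq⟩ := mem_bigQ.1 h
    exact hq
  have hθ₀surj : Function.Surjective θ₀ := by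
    intro g
    have : toCo1' g ∈ (imgC Q t).map e'.toMonoidHom := by
      rw [hX, ← toCo1'_range]; exact ⟨g, rfl⟩
    obtain ⟨_, ⟨c, hc, rfl⟩, hce⟩ := this
    refine ⟨⟨c.1, Subgroup.mem_subgroupOf.1 hc⟩, toCo1'_injective ?_⟩
    rw [hθ₀]
    exact hce
  let θ : Subgroup.centralizer ({T.zb} : Set _) →* ↥Cfsg.Spor.Co2 :=
    T.pi.liftOfSurjective T.pi_surjective ⟨θ₀, fun d hd => by
      rw [MonoidHom.mem_ker, hθ₀one]
      rcases T.pi_eq_one.1 hd with h | h <;> rw [h]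
      exacts [one_mem _, htB]⟩
  have hθ : ∀ d, θ (T.pi d) = θ₀ d := fun d => MonoidHom.liftOfRightInverse_comp_apply _ _ _ _ _
  have hθsurj : Function.Surjective θ := fun g => by
    obtain ⟨d, rfl⟩ := hθ₀surj g
    exact ⟨T.pi d, hθ d⟩
  have hker : θ.ker = T.RR := by
    ext c
    obtain ⟨d, rfl⟩ := T.pi_surjective c
    rw [MonoidHom.mem_ker, hθ, hθ₀one, T.mem_RR]
    refine ⟨fun h => ⟨d, h, rfl⟩, ?_⟩
    rintro ⟨d', hd', he⟩
    rcases T.pi_eq_iff.1 he with h | h <;> rw [h]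
    exacts [hd', mul_mem hd' htB]
  haveI hRn : T.RR.Normal := T.RR_normal
  obtain ⟨hRex, hRcard⟩ := T.extra_RR (n := 11) (by norm_num) (by rw [card_bigQ, hS.2.2.2.1])
  -- the module map
  have hcomm : ∀ (a : Cfsg.leechLattice) (q : Q), ψ' a = QuotientGroup.mk q →
      (val q * t = t * val q ↔ a ∈ Cfsg.leechPerpU) := fun a q hq => by
    rw [← hxt]; exact val_comm_iff hS hψ' hq hu
  let dd : Cfsg.leechPerpU → DD z t := fun a => ⟨val (ψ' a.1).out, Subgroup.mem_inf.2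
    ⟨(ψ' a.1).out.1.2, mem_centralizer_singleton_iff.2
      ((hcomm a.1 _ (QuotientGroup.out_eq' _).symm).2 a.2)⟩⟩
  have hdd : ∀ a, T.pi (dd a) ∈ T.RR := fun a => T.mem_RR.2 ⟨_, val_mem _, rfl⟩
  let ψB : Cfsg.leechPerpU → T.RR ⧸ Subgroup.center T.RR :=
    fun a => QuotientGroup.mk ⟨T.pi (dd a), hdd a⟩
  have hψB : ∀ (a : Cfsg.leechPerpU) (q : Q), ψ' a.1 = QuotientGroup.mk q →
      ∀ (d : DD z t) (hd : T.pi d ∈ T.RR), (d : G) = val q → ψB a = QuotientGroup.mk ⟨T.pi d, hd⟩ := by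
    intro a q hq d hd hdq
    refine QuotientGroup.eq.2 (T.mem_center_RR.2 ?_)
    have h1 : ((dd a)⁻¹ * d : G) = 1 ∨ ((dd a)⁻¹ * d : G) = z := by
      have h := QuotientGroup.eq.1 ((QuotientGroup.out_eq' (ψ' a.1)).trans hq)
      rw [mem_center_iff' hS] at h
      rw [hdq]
      exact h
    have hv : ((⟨T.pi (dd a), hdd a⟩⁻¹ * ⟨T.pi d, hd⟩ : T.RR) : Subgroup.centralizer ({T.zb} : Set _)) =
        T.pi ((dd a)⁻¹ * d) := by
      rw [map_mul, map_inv]; rfl
    rcases h1 with h | h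
    · left; rw [hv]; exact T.pi_eq_one.2 (Or.inl h)
    · right; rw [hv]; exact congrArg QuotientGroup.mk (Subtype.ext h)
  have hmul : ∀ a b : Cfsg.leechPerpU, ψB (a + b) = ψB a * ψB b := by
    intro a b
    rw [hψB (a + b) ((ψ' a.1).out * (ψ' b.1).out) (by
      rw [AddSubgroup.coe_add, hψ'.1, QuotientGroup.mk_mul, QuotientGroup.out_eq', QuotientGroup.out_eq'])
      (dd a * dd b) (by rw [map_mul]; exact mul_mem (hdd a) (hdd b)) rfl]
    show _ = QuotientGroup.mk (⟨T.pi (dd a), hdd a⟩ * ⟨T.pi (dd b), hdd b⟩ : T.RR)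
    congr 1
  have hsurj : Function.Surjective ψB := by
    intro r
    obtain ⟨r, rfl⟩ := QuotientGroup.mk_surjective r
    obtain ⟨d, hd, hdr⟩ := T.mem_RR.1 r.2
    obtain ⟨hdC, hdQ⟩ := mem_bigQ.1 hd
    obtain ⟨a, ha⟩ := hψ'.2.1 (QuotientGroup.mk (⟨⟨d.1, hdC⟩, hdQ⟩ : Q))
    have hperp : a ∈ Cfsg.leechPerpU :=
      (hcomm a _ ha).1 (mem_centralizer_singleton_iff.1 (Subgroup.mem_inf.1 d.2).2)
    refine ⟨⟨a, hperp⟩, ?_⟩
    rw [hψB ⟨a, hperp⟩ _ ha d (hdr ▸ r.2) rfl]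
    congr 1
    exact Subtype.ext hdr
  have hone : ∀ a : Cfsg.leechPerpU, ψB a = 1 ↔
      (∃ w : Cfsg.leechLattice, (a : Cfsg.leechLattice) = w + w) ∨
        ∃ w : Cfsg.leechLattice, (a : Cfsg.leechLattice) = Cfsg.Spor.leechU + (w + w) := by
    intro a
    have hval : (dd a : G) = val (ψ' a.1).out := rfl
    have hiff : (⟨T.pi (dd a), hdd a⟩ : T.RR) ∈ Subgroup.center T.RR ↔
        val (ψ' a.1).out = 1 ∨ val (ψ' a.1).out = z ∨ val (ψ' a.1).out = t ∨ val (ψ' a.1).out = z * t := by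
      rw [T.mem_center_RR]
      let d₀ : DD z t := ⟨z, Subgroup.mem_inf.2 ⟨mem_centralizer_singleton_iff.2 rfl, T.z_cent⟩⟩
      have h0 : ((T.pi (dd a) : Subgroup.centralizer ({T.zb} : Set _)).1 = T.zb) ↔ T.pi (dd a) = T.pi d₀ :=
        ⟨fun h => Subtype.ext h, fun h => congrArg Subtype.val h⟩
      rw [show ((⟨T.pi (dd a), hdd a⟩ : T.RR) : Subgroup.centralizer ({T.zb} : Set _)) = T.pi (dd a) from rfl,
        T.pi_eq_one, h0, eq_comm (b := T.pi d₀), T.pi_eq_iff, hval]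
      show (_ ∨ _) ∨ (_ ∨ val (ψ' a.1).out = z * t) ↔ _
      tauto
    show QuotientGroup.mk (⟨T.pi (dd a), hdd a⟩ : T.RR) = 1 ↔ _
    rw [QuotientGroup.eq_one_iff, hiff]
    have hU : ∀ w : Cfsg.leechLattice, (a : Cfsg.leechLattice) = Cfsg.Spor.leechU + (w + w) ↔
        (a : Cfsg.leechLattice) - Cfsg.Spor.leechU = w + w := fun w => by rw [sub_eq_iff_eq_add']
    simp only [hU]
    rw [← hψ'.2.2.1, ← cls_eq_iff]
    constructor
    · intro h
      have h' : ((ψ' a.1).out ∈ Subgroup.center Q) ∨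
          x⁻¹ * (ψ' a.1).out ∈ Subgroup.center Q := by
        rcases h with h | h | h | h
        · exact Or.inl ((mem_center_iff' hS).2 (Or.inl h))
        · exact Or.inl ((mem_center_iff' hS).2 (Or.inr h))
        · refine Or.inr ((mem_center_iff' hS).2 (Or.inl ?_))
          show (val x)⁻¹ * val (ψ' a.1).out = 1
          rw [h, hxt, inv_mul_cancel]
        · refine Or.inr ((mem_center_iff' hS).2 (Or.inr ?_))
          show (val x)⁻¹ * val (ψ' a.1).out = z
          rw [h, hxt, ← hB.comm htB, inv_mul_cancel_left]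
      rcases h' with h' | h'
      · left; rw [← (ψ' a.1).out_eq']; exact (QuotientGroup.eq_one_iff _).2 h'
      · right
        exact cls_of_psi hψ' (((QuotientGroup.eq.2 h').trans (QuotientGroup.out_eq' _)).symm.trans hu.symm)
    · rintro (h | h)
      · have := (QuotientGroup.eq_one_iff _).1 ((QuotientGroup.out_eq' (ψ' a.1)).trans h)
        rw [mem_center_iff' hS] at this
        rcases this with h' | h'
        exacts [Or.inl h', Or.inr (Or.inl h')]
      · rcases eq_mul_of_cls hS hψ' hu (QuotientGroup.out_eq' (ψ' a.1)).symm h.symm with h' | h' <;>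
          rw [hxt] at h'
        exacts [Or.inr (Or.inr (Or.inl h')), Or.inr (Or.inr (Or.inr h'))]
  have hact : ∀ (c : Subgroup.centralizer ({T.zb} : Set _)) (g : ↥Cfsg.Spor.Co2), θ c = g →
      ∀ (a b : Cfsg.leechPerpU), g • (a : Cfsg.leechLattice) = (b : Cfsg.leechLattice) →
        ∀ r : T.RR, ψB a = QuotientGroup.mk r →
          ψB b = QuotientGroup.mk ⟨c * r * c⁻¹, hRn.conj_mem (r : Subgroup.centralizer ({T.zb} : Set _)) r.2 c⟩ := by
    intro c g hg a b hab r hr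
    obtain ⟨d, rfl⟩ := T.pi_surjective c
    rw [hθ] at hg
    have hk : toCo1 (incl g) =
        e' (QuotientGroup.mk (ι d)) := by
      rw [← hg]; exact hθ₀ d
    obtain ⟨y, hy, hye⟩ := conj_lift hψ' (ι d) hk (QuotientGroup.out_eq' (ψ' a.1)).symm
    have hb : ψ' b.1 = QuotientGroup.mk y := by rw [← hye, ← hab]; rfl
    have hdy : ((d * dd a * d⁻¹ : DD z t) : G) = val y := hy.symm
    have hdr : T.pi (d * dd a * d⁻¹) = T.pi d * T.pi (dd a) * (T.pi d)⁻¹ := by
      rw [map_mul, map_mul, map_inv]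
    rw [hψB b y hb (d * dd a * d⁻¹) (hdr ▸ hRn.conj_mem _ (hdd a) _) hdy]
    refine QuotientGroup.eq.2 ?_
    have h1 : (⟨T.pi (dd a), hdd a⟩ : T.RR)⁻¹ * r ∈ Subgroup.center T.RR := QuotientGroup.eq.1 hr
    refine Subgroup.mem_center_iff.2 fun s => Subtype.ext ?_
    have h2 := congrArg Subtype.val (Subgroup.mem_center_iff.1 h1
      ⟨(T.pi d)⁻¹ * s.1 * T.pi d, by simpa using hRn.conj_mem _ s.2 (T.pi d)⁻¹⟩)
    simp only [Subgroup.coe_mul, Subgroup.coe_inv] at h2 ⊢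
    rw [hdr]
    calc (s : Subgroup.centralizer ({T.zb} : Set _)) * ((T.pi d * T.pi (dd a) * (T.pi d)⁻¹)⁻¹ *
          (T.pi d * r * (T.pi d)⁻¹))
        = T.pi d * (((T.pi d)⁻¹ * s * T.pi d) * ((T.pi (dd a))⁻¹ * r)) * (T.pi d)⁻¹ := by group
      _ = T.pi d * (((T.pi (dd a))⁻¹ * r) * ((T.pi d)⁻¹ * s * T.pi d)) * (T.pi d)⁻¹ := by rw [h2]
      _ = _ := by group
  -- the generalized Fitting subgroup
  obtain ⟨hsimple, h23⟩ := co2_simple
  haveI := hsimple
  have hC : Subgroup.centralizer (T.RR : Set (Subgroup.centralizer ({T.zb} : Set _))) ≤ T.RR := by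
    rcases ((inferInstance : (Subgroup.centralizer
      (T.RR : Set (Subgroup.centralizer ({T.zb} : Set _)))).Normal).map θ hθsurj).eq_bot_or_eq_top with h | h
    · rw [Subgroup.map_eq_bot_iff, hker] at h; exact h
    · exfalso
      obtain ⟨g, a, b, hab, h0, hU⟩ := exists_moved
      obtain ⟨c, hc, hcg⟩ := (h ▸ Subgroup.mem_top g :
        g ∈ (Subgroup.centralizer (T.RR : Set (Subgroup.centralizer ({T.zb} : Set _)))).map θ)
      obtain ⟨r, hr⟩ := QuotientGroup.mk_surjective (ψB a)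
      have e1 := hact c g hcg a b hab r hr.symm
      have e2 : ψB b = ψB a := by
        rw [e1, ← hr]
        congr 1
        refine Subtype.ext ?_
        show c * (r : Subgroup.centralizer ({T.zb} : Set _)) * c⁻¹ = r
        rw [← Subgroup.mem_centralizer_iff.1 hc r.1 r.2, mul_inv_cancel_right]
      have e3 : ψB (b - a) = 1 := by
        have := hmul (b - a) a
        rw [sub_add_cancel, e2] at this
        exact mul_eq_right.1 this.symm
      rcases (hone _).1 e3 with ⟨w, hw⟩ | ⟨w, hw⟩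
      · exact h0 (cls_eq_iff.2 ⟨w, by rw [sub_zero, ← hw, AddSubgroup.coe_sub]⟩)
      · exact hU (cls_eq_iff.2 ⟨w, by rw [sub_eq_iff_eq_add', ← hw, AddSubgroup.coe_sub]⟩)
  haveI : Fact (Nat.Prime 2) := ⟨Nat.prime_two⟩
  have hcore : Cfsg.pCore 2 (Subgroup.centralizer ({T.zb} : Set _)) = T.RR := by
    refine le_antisymm ?_ (Cfsg.Agent.Cores.le_pCore hRex.1.1)
    have hp := Cfsg.Agent.Cores.pCore_isPGroup (G := Subgroup.centralizer ({T.zb} : Set _)) 2
    haveI : (Cfsg.pCore 2 (Subgroup.centralizer ({T.zb} : Set _))).Normal := inferInstance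
    rcases ((inferInstance : (Cfsg.pCore 2 (Subgroup.centralizer ({T.zb} : Set _))).Normal).map θ
      hθsurj).eq_bot_or_eq_top with h | h
    · rw [Subgroup.map_eq_bot_iff, hker] at h; exact h
    · exfalso
      haveI : Finite ↥Cfsg.Spor.Co2 := Finite.of_surjective θ hθsurj
      obtain ⟨k, hk⟩ := (IsPGroup.iff_card (p := 2)).1 (hp.map θ)
      rw [h, Subgroup.card_top] at hk
      rw [hk] at h23
      exact absurd ((by norm_num : Nat.Prime 23).dvd_of_dvd_pow h23) (by norm_num)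
  have hF : Cfsg.generalizedFittingSubgroup (Subgroup.centralizer ({T.zb} : Set _)) = T.RR := by
    rw [← hcore]
    exact (Cfsg.Agent.CharP.genFitting_eq_pCore_iff).2 (hcore.symm ▸ hC)
  -- the conjugate of `z`
  let gh : ↥(Subgroup.centralizer ({t} : Set G)) :=
    ⟨hm, mem_centralizer_singleton_iff.2 (mul_inv_eq_iff_eq_mul.1 hm1)⟩
  let ds : DD z t := ⟨hm * z * hm⁻¹, Subgroup.mem_inf.2
    ⟨(map_subtype_le Q) hm2, mem_centralizer_singleton_iff.2 hm4⟩⟩
  have hds : (T.pi ds : Subgroup.centralizer ({T.zb} : Set _)).1 = cl gh * T.zb * (cl gh)⁻¹ :=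
    congrArg QuotientGroup.mk (Subtype.ext rfl :
      (⟨hm * z * hm⁻¹, (Subgroup.mem_inf.1 ds.2).2⟩ : Subgroup.centralizer ({t} : Set G)) =
        gh * ⟨z, T.z_cent⟩ * gh⁻¹)
  let E := (QuotientGroup.quotientMulEquivOfEq hker.symm).trans
    (QuotientGroup.quotientKerEquivOfSurjective θ hθsurj)
  refine ⟨T.zb, T.RR, hRn, ⟨T.orderOf_zb, hF, hRex, hRcard, cl gh, ⟨hds ▸ (T.pi ds).2, ?_⟩, ?_⟩,
    E, ψB, hmul, hsurj, hone, ?_⟩
  · rw [show (⟨cl gh * T.zb * (cl gh)⁻¹, hds ▸ (T.pi ds).2⟩ : Subgroup.centralizer ({T.zb} : Set _)) = T.pi ds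
      from Subtype.ext hds.symm]
    exact T.mem_RR.2 ⟨ds, hm2, rfl⟩
  · rw [← hds]
    intro h
    let d₀ : DD z t := ⟨z, Subgroup.mem_inf.2 ⟨mem_centralizer_singleton_iff.2 rfl, T.z_cent⟩⟩
    rcases T.pi_eq_iff.1 (Subtype.ext h : T.pi ds = T.pi d₀).symm with h' | h'
    · exact hm3 h'
    · exact hnconj (isConj_iff.2 ⟨hm, h'⟩)
  · intro c g hg a b hab r hr
    exact hact c g hg a b hab r hr

end Cfsg.Agent.MonsterBaby
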