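import Cfsg.Agent.S5408
import Cfsg.Agent.Lib.LargeExtra.MonsterOrbits

/-!
The squaring and commutator maps of the extraspecial group in the Monster-type setting are the
forms of the Leech lattice modulo 2.
-/

set_option autoImplicit false
set_option linter.unusedSectionVars false

namespace Cfsg.Agent.MonsterBaby

open Subgroup Cfsg.Agent.CharP.LeechForm Cfsg.Agent.S5408 Cfsg.Agent.Leech.Classes
  Cfsg.Agent.Leech.Mod2 Cfsg.Agent.MonsterOrbits Cfsg.Agent.LeechAut.Shells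
open scoped commutatorElement

/-! ### Parity -/

/-- The squared length divided by 16, modulo 2. -/
def parity (v : Cfsg.leechLattice) : ZMod 2 := ((Cfsg.sqNorm (v : Cfsg.GolayPt → ℤ) / 16 : ℤ) : ZMod 2)

theorem eight_dvd_dot (v w : Cfsg.leechLattice) :
    (8 : ℤ) ∣ Cfsg.dotInt (v : Cfsg.GolayPt → ℤ) (w : Cfsg.GolayPt → ℤ) := by
  have h := Cfsg.Agent.Leech.Basic.sixteen_dvd_sqNorm (v + w).2
  have h1 := Cfsg.Agent.Leech.Basic.sixteen_dvd_sqNorm v.2
  have h2 := Cfsg.Agent.Leech.Basic.sixteen_dvd_sqNorm w.2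
  rw [AddSubgroup.coe_add, Cfsg.Agent.LeechAut.Basic.sqNorm_add] at h
  omega

theorem parity_zero_iff (v : Cfsg.leechLattice) :
    parity v = 0 ↔ (32 : ℤ) ∣ Cfsg.sqNorm (v : Cfsg.GolayPt → ℤ) := by
  have h := Cfsg.Agent.Leech.Basic.sixteen_dvd_sqNorm v.2
  rw [parity, ZMod.intCast_zmod_eq_zero_iff_dvd]
  push_cast
  omega

theorem parity_add (v w : Cfsg.leechLattice) : parity (v + w) = parity v + parity w +
    ((Cfsg.dotInt (v : Cfsg.GolayPt → ℤ) (w : Cfsg.GolayPt → ℤ) / 8 : ℤ) : ZMod 2) := by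
  have h1 := Cfsg.Agent.Leech.Basic.sixteen_dvd_sqNorm v.2
  have h2 := Cfsg.Agent.Leech.Basic.sixteen_dvd_sqNorm w.2
  have h3 := eight_dvd_dot v w
  rw [parity, parity, parity, ← Int.cast_add, ← Int.cast_add, AddSubgroup.coe_add,
    Cfsg.Agent.LeechAut.Basic.sqNorm_add]
  congr 1
  omega

theorem parity_congr {v w : Cfsg.leechLattice} (h : cls v = cls w) : parity v = parity w := by
  obtain ⟨u, hu⟩ := cls_eq_iff.1 h
  have hv : v = w + (u + u) := by rw [← hu]; abel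
  have hd : parity (u + u) = 0 := by
    rw [parity_zero_iff, sqNorm_double]
    have := Cfsg.Agent.Leech.Basic.sixteen_dvd_sqNorm u.2
    omega
  rw [hv, parity_add, hd, add_zero, AddSubgroup.coe_add, add_eq_left,
    ZMod.intCast_zmod_eq_zero_iff_dvd]
  have h1 := eight_dvd_dot w u
  have h2 : Cfsg.dotInt (w : Cfsg.GolayPt → ℤ) ((u : Cfsg.GolayPt → ℤ) + (u : Cfsg.GolayPt → ℤ)) =
      2 * Cfsg.dotInt (w : Cfsg.GolayPt → ℤ) (u : Cfsg.GolayPt → ℤ) := by
    simp only [Cfsg.dotInt, Pi.add_apply, Finset.mul_sum]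
    exact Finset.sum_congr rfl fun i _ => by ring
  rw [h2]
  push_cast
  omega

/-! ### The form of the group -/

variable {G : Type*} [Group G] [Finite G] {z : G}
  {Q : Subgroup (Subgroup.centralizer ({z} : Set G))} [Q.Normal]
  {e : (Subgroup.centralizer ({z} : Set G)) ⧸ Q ≃* Cfsg.Spor.Co1}
  {ψ : Cfsg.leechLattice → Q ⧸ Subgroup.center Q}

/-- The squaring map. -/
noncomputable def sqf (ψ : Cfsg.leechLattice → Q ⧸ Subgroup.center Q) (v : Cfsg.leechLattice) : ZMod 2 :=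
  bit ((ψ v).out ^ 2)

section

variable (hE : Cfsg.IsExtraspecial 2 Q) (hψ : Cfsg.IsLeechModTwoIso Q e ψ)
include hE hψ

theorem comm_mem (q r : Q) : ⁅r, q⁆ ∈ Subgroup.center Q := by
  rw [← hE.1.2.2]
  exact commutator_mem_commutator (mem_top _) (mem_top _)

theorem sq_mem (q : Q) : q ^ 2 ∈ Subgroup.center Q := by
  obtain ⟨v, hv⟩ := hψ.2.1 (QuotientGroup.mk q)
  rw [← QuotientGroup.eq_one_iff, QuotientGroup.mk_pow, pow_two, ← hv, ← hψ.1]
  exact (hψ.2.2.1 _).2 ⟨v, rfl⟩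

theorem sqf_eq {v : Cfsg.leechLattice} {q : Q} (h : ψ v = QuotientGroup.mk q) :
    sqf ψ v = bit (q ^ 2) := by
  show bit ((ψ v).out ^ 2) = _
  rw [sq_lift hE.2 (q := (ψ v).out) (r := q) ((QuotientGroup.out_eq' _).trans h)]

theorem pol_sqf {v w : Cfsg.leechLattice} {q r : Q} (hq : ψ v = QuotientGroup.mk q)
    (hr : ψ w = QuotientGroup.mk r) : pol (sqf ψ) v w = bit ⁅r, q⁆ := by
  have hvw : ψ (v + w) = QuotientGroup.mk (q * r) := by rw [hψ.1, hq, hr]; rfl
  have hcm := comm_mem hE hψ q r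
  have hid : (q * r) ^ 2 = q ^ 2 * r ^ 2 * ⁅r, q⁆ := by
    have h1 : (q * r) ^ 2 = q * ⁅r, q⁆ * q * r * r := by
      simp only [commutatorElement_def, pow_two]; group
    have h2 := Subgroup.mem_center_iff.1 hcm
    rw [h1, h2 q, mul_assoc ⁅r, q⁆ q q, mul_assoc (⁅r, q⁆ * (q * q)) r r,
      mul_assoc ⁅r, q⁆ (q * q) (r * r), ← h2, ← pow_two, ← pow_two]
  rw [pol, sqf_eq hE hψ hvw, sqf_eq hE hψ hq, sqf_eq hE hψ hr, hid,
    bit_mul hE.2 (mul_mem (sq_mem hE hψ q) (sq_mem hE hψ r)) hcm,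
    bit_mul hE.2 (sq_mem hE hψ q) (sq_mem hE hψ r)]
  have : ∀ a b c : ZMod 2, a + b + c + a + b = c := by decide
  exact this _ _ _

theorem invForm_sqf : InvForm (sqf ψ) := by
  refine ⟨fun u v w => ?_, fun v => ?_, fun g v => ?_⟩
  · obtain ⟨q1, h1⟩ := QuotientGroup.mk_surjective (ψ u)
    obtain ⟨q2, h2⟩ := QuotientGroup.mk_surjective (ψ v)
    obtain ⟨r, h3⟩ := QuotientGroup.mk_surjective (ψ w)
    have h12 : ψ (u + v) = QuotientGroup.mk (q1 * q2) := by rw [hψ.1, ← h1, ← h2]; rfl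
    rw [pol_sqf hE hψ h12 h3.symm, pol_sqf hE hψ h1.symm h3.symm, pol_sqf hE hψ h2.symm h3.symm,
      ← bit_mul hE.2 (comm_mem hE hψ _ _) (comm_mem hE hψ _ _)]
    congr 1
    have hzc : ⁅r, q2⁆ = q1 * ⁅r, q2⁆ * q1⁻¹ := by
      rw [Subgroup.mem_center_iff.1 (comm_mem hE hψ q2 r) q1, mul_inv_cancel_right]
    rw [hzc]
    simp only [commutatorElement_def]
    group
  · rw [sqf_eq hE hψ (q := 1) ((hψ.2.2.1 (v + v)).2 ⟨v, rfl⟩)]
    simp [bit_eq_zero]
  · obtain ⟨h, hh⟩ := QuotientGroup.mk_surjective (e.symm (QuotientGroup.mk g))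
    obtain ⟨q, hq⟩ := QuotientGroup.mk_surjective (ψ v)
    have hgh : (QuotientGroup.mk g : Cfsg.Spor.Co1) = e (QuotientGroup.mk h) := by
      rw [hh, MulEquiv.apply_symm_apply]
    rw [sqf_eq hE hψ (hψ.2.2.2 h g hgh v q hq.symm), sqf_eq hE hψ hq.symm]
    obtain ⟨ε, -, hεne, -, hall⟩ := center_cases hE.2
    let c : Q →* Q := (MulAut.conjNormal h).toMonoidHom
    have hc' : (⟨h * q * h⁻¹, (inferInstance : Q.Normal).conj_mem
        (q : Subgroup.centralizer ({z} : Set G)) q.2 h⟩ : Q) = c q :=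
      Subtype.ext (MulAut.conjNormal_apply h q).symm
    rw [hc', ← map_pow]
    rcases hall _ (sq_mem hE hψ q) with h1 | h1
    · rw [h1, map_one]
    · rw [h1]
      congr 1
      rcases hall _ (show c ε ∈ Subgroup.center Q from Subgroup.mem_center_iff.2 fun x => by
          obtain ⟨y, rfl⟩ := (MulAut.conjNormal h : Q ≃* Q).surjective x
          show c y * c ε = c ε * c y
          rw [← map_mul, ← map_mul]
          exact congrArg c (Subgroup.mem_center_iff.1 (h1 ▸ sq_mem hE hψ q) y)) with h2 | h2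
      · exact absurd ((map_eq_one_iff c (MulAut.conjNormal h : Q ≃* Q).injective).1 h2) hεne
      · exact h2

/-- The squaring map is the parity of the squared length over 16. -/
theorem sqf_val (hcard : 2 < Nat.card Q) (v : Cfsg.leechLattice) : sqf ψ v = parity v := by
  have hf := invForm_sqf hE hψ
  have hcongr : ∀ {a b : Cfsg.leechLattice}, cls a = cls b → sqf ψ a = sqf ψ b := by
    intro a b h
    show bit ((ψ a).out ^ 2) = bit ((ψ b).out ^ 2)
    rw [psi_congr hψ h]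
  have hrep : ∀ u : Cfsg.leechLattice, ∃ w : Cfsg.leechLattice, cls w = cls u ∧
      ((w = 0 ∨ Cfsg.sqNorm (w : Cfsg.GolayPt → ℤ) = 32 ∨ Cfsg.sqNorm (w : Cfsg.GolayPt → ℤ) = 64) ∨
        Cfsg.sqNorm (w : Cfsg.GolayPt → ℤ) = 48) := by
    intro u
    obtain ⟨w, hw, hc⟩ := (class_count leech_shells).1 (cls u)
    rw [lform_self] at hw
    refine ⟨w, hc, ?_⟩
    by_cases h0 : (w : Cfsg.GolayPt → ℤ) = 0
    · exact Or.inl (Or.inl (Subtype.ext h0))
    have := Cfsg.Agent.Leech.Basic.sixteen_dvd_sqNorm w.2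
    have := Cfsg.Agent.Leech.Basic.min_norm w.2 h0
    omega
  have hgood : ∀ w : Cfsg.leechLattice, (w = 0 ∨ Cfsg.sqNorm (w : Cfsg.GolayPt → ℤ) = 32 ∨
      Cfsg.sqNorm (w : Cfsg.GolayPt → ℤ) = 64) → sqf ψ w = 0 := by
    rintro w (rfl | h | h)
    · exact hf.f_zero
    · obtain ⟨g, hg⟩ := transitive32 w (U none (some 0)) h (by decide +kernel)
      rw [← hf.inv g, hg, hf.f_U]
    · obtain ⟨g, hg⟩ := transitive64 w (U none none) h (by decide +kernel)
      rw [← hf.inv g, hg, hf.f_U]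
  have h48 : ∀ w : Cfsg.leechLattice, Cfsg.sqNorm (w : Cfsg.GolayPt → ℤ) = 48 → sqf ψ w = 1 := by
    intro w hw
    have hd : ∀ x : ZMod 2, x ≠ 1 → x = 0 := by decide
    by_contra hne
    have hall : ∀ u, sqf ψ u = 0 := by
      intro u
      obtain ⟨x, hc, hx | hx⟩ := hrep u
      · rw [← hcongr hc]; exact hgood x hx
      · rw [← hcongr hc]
        obtain ⟨g, hg⟩ := transitive48 x w hx hw
        rw [← hf.inv g, hg]; exact hd _ hne
    have htop : Subgroup.center Q = ⊤ := by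
      refine eq_top_iff.2 fun q _ => Subgroup.mem_center_iff.2 fun r => ?_
      obtain ⟨a, ha⟩ := hψ.2.1 (QuotientGroup.mk q)
      obtain ⟨b, hb⟩ := hψ.2.1 (QuotientGroup.mk r)
      have := pol_sqf hE hψ ha hb
      rw [pol, hall, hall, hall] at this
      exact commutatorElement_eq_one_iff_mul_comm.1 (bit_eq_zero.1 (this.symm.trans (by decide)))
    have := hE.2
    rw [htop, Subgroup.card_top] at this
    omega
  obtain ⟨w, hc, hw⟩ := hrep v
  rw [← hcongr hc, ← parity_congr hc]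
  rcases hw with hw | hw
  · rw [hgood w hw, eq_comm, parity_zero_iff]
    rcases hw with rfl | h | h
    · simp [Cfsg.sqNorm]
    all_goals rw [h] <;> norm_num
  · rw [h48 w hw, parity, hw]
    decide

/-- Commutation is orthogonality modulo 2. -/
theorem comm_iff (hcard : 2 < Nat.card Q) {v w : Cfsg.leechLattice} {q r : Q}
    (hq : ψ v = QuotientGroup.mk q) (hr : ψ w = QuotientGroup.mk r) :
    q * r = r * q ↔ (16 : ℤ) ∣ Cfsg.dotInt (v : Cfsg.GolayPt → ℤ) (w : Cfsg.GolayPt → ℤ) := by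
  rw [eq_comm, ← commutatorElement_eq_one_iff_mul_comm, ← bit_eq_zero, ← pol_sqf hE hψ hq hr,
    pol, sqf_val hE hψ hcard, sqf_val hE hψ hcard, sqf_val hE hψ hcard, parity_add]
  have : ∀ a b c : ZMod 2, a + b + c + a + b = c := by decide
  rw [this, ZMod.intCast_zmod_eq_zero_iff_dvd]
  have := eight_dvd_dot v w
  push_cast
  omega

theorem sq_iff (hcard : 2 < Nat.card Q) {v : Cfsg.leechLattice} {q : Q}
    (hq : ψ v = QuotientGroup.mk q) :
    q * q = 1 ↔ (32 : ℤ) ∣ Cfsg.sqNorm (v : Cfsg.GolayPt → ℤ) := by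
  rw [← pow_two, ← bit_eq_zero, ← sqf_eq hE hψ hq, sqf_val hE hψ hcard, parity_zero_iff]

end

end Cfsg.Agent.MonsterBaby
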