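import Cfsg.Agent.S5408
import Cfsg.Agent.Lib.Leech.Mod2
import Cfsg.Agent.Lib.LeechAut.Cross

/-!
The classes modulo 2 fixed by all sign changes up to the frame class.
-/

set_option autoImplicit false
set_option linter.unusedSectionVars false

open scoped Pointwise

namespace Cfsg.Agent.MonsterBaby.Lattice

open Cfsg Cfsg.Agent.Leech.Classes Cfsg.Agent.Leech.Mod2 Cfsg.Agent.Leech.Basic
  Cfsg.Agent.Leech.Index Cfsg.Agent.Leech.Gen Cfsg.Agent.Golay.Basic Cfsg.Agent.Golay.Design
  Cfsg.Agent.LeechAut.Cross Cfsg.Agent.LeechAut.Basic Cfsg.Agent.CharP.LeechForm Cfsg.Agent.S5553 Finset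

/-- All coordinates are divisible by four, or all are 2 modulo 4. -/
def Flat (v : leechLattice) : Prop :=
  (∀ i, (4 : ℤ) ∣ (v : GolayPt → ℤ) i) ∨ ∀ i, (4 : ℤ) ∣ (v : GolayPt → ℤ) i - 2

theorem isCode_mask {s : Finset GolayPt} : s ∈ codeSets ↔ isCode (mask s) = true :=
  mem_supports_iff

/-- No proper non-empty code word meets every code word in a code word. -/
theorem meet_check : codeList.all (fun a => a == 0 || a == 16777215 ||
    basisMasks.any fun b => !(isCode (a &&& b))) = true := by decide +kernel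

theorem code_meet {c : Finset GolayPt} (hc : c ∈ codeSets)
    (h : ∀ d ∈ codeSets, c ∩ d ∈ codeSets) : c = ∅ ∨ c = univ := by
  have hm : isCode (mask c) = true := isCode_mask.1 hc
  have := forall_code meet_check hm
  simp only [Bool.or_eq_true, beq_iff_eq, List.any_eq_true, Bool.not_eq_true'] at this
  rcases this with (h0 | h1) | ⟨b, hb, hcb⟩
  · exact Or.inl (mask_injective (h0.trans (by decide +kernel)))
  · exact Or.inr (mask_injective (h1.trans (by decide +kernel)))
  · exfalso
    have hcode : ∀ m ∈ basisMasks, isCode m = true ∧ m < 2 ^ 24 := by decide +kernel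
    have hd : maskSet b ∈ codeSets := isCode_mask.2 (by
      rw [mask_maskSet (hcode b hb).2]; exact (hcode b hb).1)
    have := isCode_mask.1 (h _ hd)
    rw [mask_inter, mask_maskSet (hcode b hb).2, hcb] at this
    exact Bool.noConfusion this

/-- A class fixed by all sign changes up to the frame class is flat. -/
theorem flat_of_fixed (v : leechLattice)
    (h : ∀ (d : Finset GolayPt) (hd : d ∈ codeSets), cls (sign d hd • v) = cls v ∨
      cls (sign d hd • v) = cls (v + frame none)) : Flat v := by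
  obtain ⟨m, c, y, hm, hc, hv, -⟩ := mem_lattice_iff.1 v.2
  have key : ∀ d, d ∈ codeSets → ∃ x ∈ leechLattice, ∃ k : GolayPt → ℤ, ∀ i,
      x i = (if i ∈ d then (v : GolayPt → ℤ) i else 0) + 4 * k i := by
    intro d hd
    rcases h d hd with e | e
    all_goals obtain ⟨x, hx, he⟩ := exists_half_iff.1 e.symm
    all_goals refine ⟨x, hx, ?_⟩
    · refine ⟨0, fun i => ?_⟩
      have h1 := congrFun he i
      have h2 : ((sign d hd • v : leechLattice) : GolayPt → ℤ) i =
          if i ∈ d then -(v : GolayPt → ℤ) i else (v : GolayPt → ℤ) i := rfl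
      simp only [Pi.sub_apply, Pi.smul_apply, h2] at h1
      by_cases hi : i ∈ d <;> simp [hi] at h1 ⊢ <;> omega
    · refine ⟨Pi.single none 1, fun i => ?_⟩
      have h1 := congrFun he i
      have h2 : ((sign d hd • v : leechLattice) : GolayPt → ℤ) i =
          if i ∈ d then -(v : GolayPt → ℤ) i else (v : GolayPt → ℤ) i := rfl
      simp only [Pi.sub_apply, Pi.smul_apply, h2, AddSubgroup.coe_add, Pi.add_apply, frame_coe,
        Pi.single_apply] at h1
      rcases eq_or_ne i none with rfl | hn
      · by_cases hi : none ∈ d <;> simp [hi] at h1 ⊢ <;> omega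
      · by_cases hi : i ∈ d <;> simp [hi, hn] at h1 ⊢ <;> omega
  rcases hm with rfl | rfl
  · have hmeet : ∀ d ∈ codeSets, c ∩ d ∈ codeSets := by
      intro d hd
      obtain ⟨x, hx, k, hk⟩ := key d hd
      obtain ⟨m', c', y', hm', hc', hx', -⟩ := mem_lattice_iff.1 hx
      have : c ∩ d = c' := by
        ext i
        have h1 := hk i
        have h2 := hx' i
        have h3 := hv i
        by_cases hi : i ∈ c <;> by_cases hi' : i ∈ d <;> by_cases hi2 : i ∈ c' <;>
          simp [ind, hi, hi', hi2] at h1 h2 h3 ⊢ <;> omega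
      rw [this]; exact hc'
    rcases code_meet hc hmeet with rfl | rfl
    · exact Or.inl fun i => ⟨y i, by rw [hv i]; simp [ind]⟩
    · exact Or.inr fun i => ⟨y i, by rw [hv i]; simp [ind]⟩
  · exfalso
    obtain ⟨o, ho⟩ : octads.Nonempty := Set.nonempty_of_ncard_ne_zero (by rw [octads_ncard]; norm_num)
    have h8 := octad_card ho
    obtain ⟨i, hi⟩ : o.Nonempty := card_pos.1 (by omega)
    obtain ⟨j, hj⟩ := exists_avoid o (by omega)
    obtain ⟨x, hx, k, hk⟩ := key o (octad_mem_supports ho)
    obtain ⟨m', c', y', hm', hc', hx', -⟩ := mem_lattice_iff.1 hx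
    have h1 := hk i
    have h2 := hx' i
    have h3 := hv i
    have h4 := hk j
    have h5 := hx' j
    rw [if_pos hi] at h1
    rw [if_neg hj] at h4
    omega

theorem flat_mem {v : leechLattice} (h : Flat v) : (v : GolayPt → ℤ) ∈ halfA.map dblHom := by
  obtain ⟨m, c, y, hm, hc, hv, hs⟩ := mem_lattice_iff.1 v.2
  have hm0 : m = 0 := by
    have := hv none
    rcases h with h | h <;> have := h none <;> omega
  subst hm0
  refine ⟨fun i => (v : GolayPt → ℤ) i / 2, ⟨?_, ?_⟩, funext fun i => ?_⟩
  · show redHom _ ∈ AddSubgroup.zmultiples (1 : GolayPt → ZMod 2)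
    rcases h with h | h
    · have : redHom (fun i => (v : GolayPt → ℤ) i / 2) = 0 := by
        funext i
        obtain ⟨k, hk⟩ := h i
        have e : (v : GolayPt → ℤ) i / 2 = 2 * k := by omega
        simp [redHom, e, show (2 : ZMod 2) = 0 from rfl]
      rw [this]; exact zero_mem _
    · have : redHom (fun i => (v : GolayPt → ℤ) i / 2) = 1 := by
        funext i
        obtain ⟨k, hk⟩ := h i
        have e : (v : GolayPt → ℤ) i / 2 = 2 * k + 1 := by omega
        simp [redHom, e, show (2 : ZMod 2) = 0 from rfl]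
      rw [this]; exact AddSubgroup.mem_zmultiples _
  · show ((∑ i, (v : GolayPt → ℤ) i / 2 : ℤ) : ZMod 4) = 0
    rw [ZMod.intCast_zmod_eq_zero_iff_dvd]
    have h2 : ∑ i, (v : GolayPt → ℤ) i = 2 * ∑ i, (v : GolayPt → ℤ) i / 2 := by
      rw [mul_sum]
      refine sum_congr rfl fun i _ => ?_
      have := hv i
      omega
    push_cast
    omega
  · show 2 * ((v : GolayPt → ℤ) i / 2) = _
    have := hv i
    omega

/-- The classes of flat vectors. -/
def flatCls : AddSubgroup (leechLattice ⧸ (nsmulAddMonoidHom (α := leechLattice) 2).range) :=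
  ((halfA.map dblHom).addSubgroupOf leechLattice).map (QuotientAddGroup.mk' _)

theorem cls_mem_flatCls {v : leechLattice} (h : Flat v) : cls v ∈ flatCls :=
  ⟨v, AddSubgroup.mem_addSubgroupOf.2 (flat_mem h), rfl⟩

theorem card_flatCls : Nat.card flatCls = 2 ^ 12 := by
  set N := (nsmulAddMonoidHom (α := leechLattice) 2).range
  set A := (halfA.map dblHom).addSubgroupOf leechLattice
  have hNA : N ≤ A := by
    rintro _ ⟨w, rfl⟩
    rw [AddSubgroup.mem_addSubgroupOf]
    show ((2 • w : leechLattice) : GolayPt → ℤ) ∈ halfA.map dblHom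
    rw [two_nsmul]
    exact S5408.double_mem w
  have h1 : N.relIndex A * A.index = N.index := AddSubgroup.relIndex_mul_index hNA
  rw [lattice_index_double, show A.index = 2 ^ 12 from S5408.A_index] at h1
  have h2 : (QuotientAddGroup.mk' N).ker.relIndex A = Nat.card (A.map (QuotientAddGroup.mk' N)) :=
    relIndex_ker' _ _
  rw [QuotientAddGroup.ker_mk'] at h2
  show Nat.card (A.map (QuotientAddGroup.mk' N)) = 2 ^ 12
  rw [← h2]
  exact Nat.eq_of_mul_eq_mul_right (by norm_num : 0 < 2 ^ 12) (h1.trans (by norm_num))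

theorem flat_congr {v w : leechLattice} (h : Flat v) (hc : cls w = cls v) : Flat w := by
  obtain ⟨u, hu⟩ := cls_eq_iff.1 hc
  obtain ⟨m, c, y, hm, -, hu', -⟩ := mem_lattice_iff.1 u.2
  have hw : ∀ i, (w : GolayPt → ℤ) i = (v : GolayPt → ℤ) i + 2 * (u : GolayPt → ℤ) i := fun i => by
    have := congrFun (congrArg Subtype.val hu) i
    simp only [AddSubgroup.coe_sub, AddSubgroup.coe_add, Pi.sub_apply, Pi.add_apply] at this
    omega
  rcases hm with rfl | rfl <;> rcases h with h | h
  · exact Or.inl fun i => by have := hw i; have := hu' i; have := h i; omega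
  · exact Or.inr fun i => by have := hw i; have := hu' i; have := h i; omega
  · exact Or.inr fun i => by have := hw i; have := hu' i; have := h i; omega
  · exact Or.inl fun i => by have := hw i; have := hu' i; have := h i; omega

theorem U_flat (a b : GolayPt) : Flat (U a b) := Or.inl fun i => by
  rw [U_apply]; split_ifs <;> norm_num

theorem dot_frame (v : leechLattice) :
    dotInt (v : GolayPt → ℤ) (frame none : GolayPt → ℤ) = 8 * (v : GolayPt → ℤ) none := by
  simp [dotInt, frame_coe, Pi.single_apply, mul_comm]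

theorem dot_U (v : leechLattice) (a b : GolayPt) :
    dotInt (v : GolayPt → ℤ) (U a b : GolayPt → ℤ) =
      4 * (v : GolayPt → ℤ) a + 4 * (v : GolayPt → ℤ) b := by
  simp only [dotInt, U_apply, mul_add, sum_add_distrib, mul_ite, mul_zero, sum_ite_eq',
    mem_univ, if_true]
  ring

theorem sqNorm_U {a b : GolayPt} (h : a ≠ b) : sqNorm (U a b : GolayPt → ℤ) = 32 := by
  have := (pair_mem h 1 1 (Or.inl rfl) (Or.inl rfl)).2
  simpa [U] using this

/-- The short vectors in flat classes. -/
theorem short_flat {v w : leechLattice} (hv : Flat v) (hw : sqNorm (w : GolayPt → ℤ) = 32)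
    (hc : cls w = cls v) :
    ∃ a b, a ≠ b ∧ (cls v = cls (U a b) ∨ cls v = cls (U a b + frame none)) := by
  rcases flat_congr hv hc with hw4 | hw4
  swap
  · exfalso
    have := le_sqNorm_of_subset (x := (w : GolayPt → ℤ)) (s := univ) (b := 4) (by
      intro i _
      obtain ⟨k, hk⟩ := hw4 i
      have h2 : (w : GolayPt → ℤ) i = 2 * (2 * k + 1) := by omega
      have : 1 ≤ |2 * k + 1| := Int.one_le_abs (by omega)
      rw [h2]; nlinarith [sq_abs (2 * k + 1)])
    rw [card_univ, show Fintype.card GolayPt = 24 by decide, hw] at this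
    norm_num at this
  choose y hy using hw4
  have hsum : ∑ i, y i ^ 2 = 2 := by
    unfold sqNorm at hw
    simp only [hy, mul_pow, ← mul_sum] at hw
    omega
  have hle : ∀ i, y i = 0 ∨ y i = 1 ∨ y i = -1 := by
    intro i
    have h1 : y i ^ 2 ≤ 2 := hsum ▸ single_le_sum (f := fun j => y j ^ 2) (fun j _ => sq_nonneg _) (mem_univ i)
    have : -1 ≤ y i ∧ y i ≤ 1 := ⟨by nlinarith, by nlinarith⟩
    omega
  set S := univ.filter fun i => y i ≠ 0
  have hS : (S.card : ℤ) = 2 := by
    rw [← hsum, show (S.card : ℤ) = ∑ i ∈ S, (1 : ℤ) by simp,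
      ← sum_subset (subset_univ S) (fun i _ hi => by
        have : y i = 0 := by by_contra h; exact hi (mem_filter.2 ⟨mem_univ i, h⟩)
        simp [this])]
    refine sum_congr rfl fun i hi => ?_
    have := (mem_filter.1 hi).2
    rcases hle i with h | h | h
    · exact absurd h this
    all_goals rw [h]; norm_num
  obtain ⟨a, b, hab, hSe⟩ := card_eq_two.1 (show S.card = 2 by exact_mod_cast hS)
  have hz : ∀ i, i ≠ a → i ≠ b → y i = 0 := fun i h1 h2 => by
    by_contra h
    have : i ∈ S := mem_filter.2 ⟨mem_univ i, h⟩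
    rw [hSe] at this
    simp [h1, h2] at this
  have hne : ∀ i, i = a ∨ i = b → y i = 1 ∨ y i = -1 := fun i h => by
    have : i ∈ S := by rw [hSe]; simp [h]
    exact (hle i).resolve_left (mem_filter.1 this).2
  refine ⟨a, b, hab, ?_⟩
  rw [← hc]
  have hform : ∀ (s t : ℤ), y a = s → y b = t → ∀ i, (w : GolayPt → ℤ) i =
      (if i = a then 4 * s else 0) + (if i = b then 4 * t else 0) := by
    intro s t hs ht i
    rw [hy]
    by_cases h1 : i = a
    · subst h1; simp [hs, hab]
    by_cases h2 : i = b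
    · subst h2; simp [ht, h1]
    · simp [hz i h1 h2, h1, h2]
  rcases hne a (Or.inl rfl) with ha | ha <;> rcases hne b (Or.inr rfl) with hb | hb
  · left; congr 1
    apply Subtype.ext; funext i
    rw [hform _ _ ha hb, U_apply]; norm_num
  · right
    rw [cls_eq_iff]
    refine ⟨-U b none, ?_⟩
    apply Subtype.ext; funext i
    simp only [AddSubgroup.coe_sub, AddSubgroup.coe_add, AddSubgroup.coe_neg, Pi.sub_apply, Pi.add_apply,
      Pi.neg_apply, hform _ _ ha hb, U_apply, frame_coe, Pi.single_apply]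
    split_ifs <;> norm_num
  · right
    rw [cls_eq_iff]
    refine ⟨-U a none, ?_⟩
    apply Subtype.ext; funext i
    simp only [AddSubgroup.coe_sub, AddSubgroup.coe_add, AddSubgroup.coe_neg, Pi.sub_apply, Pi.add_apply,
      Pi.neg_apply, hform _ _ ha hb, U_apply, frame_coe, Pi.single_apply]
    split_ifs <;> norm_num
  · left
    rw [← cls_neg w]; congr 1
    apply Subtype.ext; funext i
    rw [AddSubgroup.coe_neg, Pi.neg_apply, hform _ _ ha hb, U_apply]; split_ifs <;> norm_num

/-- An octad containing `a` but not `b`. -/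
theorem exists_octad_sep {a b : GolayPt} (h : a ≠ b) : ∃ o ∈ octads, a ∈ o ∧ b ∉ o := by
  obtain ⟨o, ho⟩ : octads.Nonempty := Set.nonempty_of_ncard_ne_zero (by rw [octads_ncard]; norm_num)
  have h8 := octad_card ho
  obtain ⟨p, hp⟩ : o.Nonempty := card_pos.1 (by omega)
  obtain ⟨q, hq⟩ := exists_avoid o (by omega)
  have hpq : p ≠ q := fun e => hq (e ▸ hp)
  obtain ⟨σ, hσ, hmap⟩ := Cfsg.Agent.Golay.M24.exists_map_tuple (by norm_num : 2 ≤ 5)
    ⟨![p, q], inj_two hpq⟩ ⟨![a, b], inj_two h⟩
  have h0 : σ p = a := hmap 0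
  have h1 : σ q = b := hmap 1
  refine ⟨σ • o, ?_, ?_, ?_⟩
  · exact Cfsg.Agent.Golay.M24.smul_mem_octads hσ ho
  · exact h0 ▸ (Cfsg.Agent.Golay.M24.mem_smul_iff σ o p).2 hp
  · exact h1 ▸ fun hb => hq ((Cfsg.Agent.Golay.M24.mem_smul_iff σ o q).1 hb)

end Cfsg.Agent.MonsterBaby.Lattice
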