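import Cfsg.Agent.Lib.LargeExtra.MonsterPair
import Cfsg.Agent.Lib.LargeExtra.MonsterBaby.Form
import Cfsg.Agent.Lib.LargeExtra.MonsterBaby.Lattice

/-!
An involution of the extraspecial group of type 32 centralizes an element moving `z` inside the
extraspecial group.
-/

set_option autoImplicit false
set_option linter.unusedSectionVars false

namespace Cfsg.Agent.MonsterBaby

open Subgroup Cfsg.Agent.LargeExtra Cfsg.Agent.Golay.Design Cfsg.Agent.Leech.Classes Cfsg.Agent.Leech.Mod2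
  Cfsg.Agent.Leech.Basic Cfsg.Agent.Leech.Gen Cfsg.Agent.CharP.LeechForm
  Cfsg.Agent.MonsterOrbits Cfsg.Agent.MonsterPair Cfsg.Agent.LeechAut.Cross
  Cfsg.Agent.LeechAut.Maximal Cfsg.Agent.LeechAut.Co1 Cfsg.Agent.LeechAut.Basic
open scoped commutatorElement Pointwise

variable {G : Type*} [Group G] [Finite G] {z : G}
  {Q : Subgroup (Subgroup.centralizer ({z} : Set G))} [Q.Normal]
  {e : (Subgroup.centralizer ({z} : Set G)) ⧸ Q ≃* Cfsg.Spor.Co1}
  {ψ : Cfsg.leechLattice → Q ⧸ Subgroup.center Q}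

/-- An element of `Q` in the ambient group. -/
abbrev val (x : Q) : G := ((x : Subgroup.centralizer ({z} : Set G)) : G)

theorem val_mem (x : Q) : val x ∈ bigQ Q := ⟨_, x.2, rfl⟩

/-- Composition of the identifications with a lattice automorphism. -/
theorem twist (hψ : Cfsg.IsLeechModTwoIso Q e ψ) (g₀ : Cfsg.Co0) :
    Cfsg.IsLeechModTwoIso Q (e.trans (MulAut.conj (toCo1 g₀))) (fun u => ψ (g₀⁻¹ • u)) := by
  refine ⟨fun a b => ?_, fun q => ?_, fun a => ?_, fun h k hk u q hq => ?_⟩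
  · show ψ (g₀⁻¹ • (a + b)) = _
    rw [smul_add', hψ.1]
  · obtain ⟨u, hu⟩ := hψ.2.1 q
    exact ⟨g₀ • u, by show ψ (g₀⁻¹ • (g₀ • u)) = q; rw [inv_smul_smul, hu]⟩
  · show ψ (g₀⁻¹ • a) = 1 ↔ _
    rw [hψ.2.2.1]
    constructor
    · rintro ⟨u, hu⟩
      exact ⟨g₀ • u, by rw [← smul_add', ← hu, smul_inv_smul]⟩
    · rintro ⟨u, rfl⟩
      exact ⟨g₀⁻¹ • u, smul_add' _ _ _⟩
  · have hk' : (QuotientGroup.mk (g₀⁻¹ * k * g₀) : Cfsg.Spor.Co1) = e (QuotientGroup.mk h) := by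
      rw [QuotientGroup.mk_mul, QuotientGroup.mk_mul, hk, QuotientGroup.mk_inv]
      show _ * (toCo1 g₀ * e (QuotientGroup.mk h) * (toCo1 g₀)⁻¹) * _ = _
      simp [mul_assoc]
    have := hψ.2.2.2 h (g₀⁻¹ * k * g₀) hk' (g₀⁻¹ • u) q hq
    show ψ (g₀⁻¹ • (k • u)) = _
    rw [← this, mul_smul, mul_smul, smul_inv_smul]

/-- The action of the centralizer on the classes. -/
theorem conj_lift (hψ : Cfsg.IsLeechModTwoIso Q e ψ) (h : Subgroup.centralizer ({z} : Set G))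
    {k : Cfsg.Co0} (hk : toCo1 k = e (QuotientGroup.mk h)) {v : Cfsg.leechLattice} {x : Q}
    (hv : ψ v = QuotientGroup.mk x) :
    ∃ y : Q, val y = (h : G) * val x * (h : G)⁻¹ ∧ ψ (k • v) = QuotientGroup.mk y :=
  ⟨_, rfl, hψ.2.2.2 h k hk v x hv⟩

section

variable {w : ℕ} (hS : Cfsg.IsExtraspecialCentralizerSetting z Q w) (hψ : Cfsg.IsLeechModTwoIso Q e ψ)
include hS hψ

theorem eq_mul_of_cls {x y : Q} {v u : Cfsg.leechLattice} (hv : ψ v = QuotientGroup.mk x)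
    (hu : ψ u = QuotientGroup.mk y) (hc : cls v = cls u) : val y = val x ∨ val y = z * val x := by
  have h := psi_congr hψ hc
  rw [hv, hu, QuotientGroup.eq, mem_center_iff' hS] at h
  have h' : (val x)⁻¹ * val y = 1 ∨ (val x)⁻¹ * val y = z := h
  rw [inv_mul_eq_iff_eq_mul, inv_mul_eq_iff_eq_mul, mul_one] at h'
  exact h'.imp_right fun e => e.trans ((ctr_bigQ hS).comm (val_mem x))

end

section

variable (hS : Cfsg.IsExtraspecialCentralizerSetting z Q 12) (hψ : Cfsg.IsLeechModTwoIso Q e ψ)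
include hS hψ

theorem val_comm_iff {x y : Q} {v u : Cfsg.leechLattice} (hv : ψ v = QuotientGroup.mk x)
    (hu : ψ u = QuotientGroup.mk y) :
    val x * val y = val y * val x ↔ (16 : ℤ) ∣ Cfsg.dotInt (v : Cfsg.GolayPt → ℤ) (u : Cfsg.GolayPt → ℤ) := by
  rw [← comm_iff hS.2.2.1 hψ (by rw [hS.2.2.2.1]; norm_num) hv hu]
  exact ⟨fun h => Subtype.ext (Subtype.ext h), fun h => congrArg val h⟩

theorem not_conj_of_ty32 {x : Q} (hx : Ty ψ x 32) : ¬ IsConj z (val x) := by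
  intro hc
  have hxz : val x ≠ z := fun h => hx.notMem_center hψ (by norm_num) (by norm_num)
    ((mem_center_iff' hS).2 (Or.inr h))
  obtain ⟨v, hv, hvx⟩ := ty_conj hS hψ hc hxz
  obtain ⟨u, hu, hux⟩ := hx
  rcases short_eq_of_cls leech_shells (x := u) (y := v) (by rw [lform_self]; omega)
    (by rw [lform_self]; omega) (cls_of_psi hψ (hvx.trans hux.symm)) with h | h
  · rw [h] at hv; omega
  · rw [h] at hv
    simp only [AddSubgroup.coe_neg, Cfsg.sqNorm, Pi.neg_apply, neg_sq] at hv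
    simp only [Cfsg.sqNorm] at hu
    omega

theorem ty32_of_invol {x : Q} (h1 : val x ≠ 1) (h2 : val x * val x = 1)
    (hc : ¬ IsConj z (val x)) : Ty ψ x 32 := by
  have hxc : x ∉ Subgroup.center Q := by
    rw [mem_center_iff' hS]
    rintro (h | h)
    · exact h1 h
    · exact hc (by rw [show val x = z from h])
  rcases exists_ty hψ hxc with h | h | h
  · exact h
  · exfalso
    obtain ⟨v, hv, hvx⟩ := h
    have := (sq_iff hS.2.2.1 hψ (by rw [hS.2.2.2.1]; norm_num) hvx).1 (Subtype.ext (Subtype.ext h2))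
    rw [hv] at this
    norm_num at this
  · exfalso
    obtain ⟨g, ⟨hgc, hgQ⟩, hgz⟩ := hS.2.2.2.2
    obtain ⟨c, -, hce⟩ := conj_of_ty hS hψ (x := ⟨⟨g * z * g⁻¹, hgc⟩, hgQ⟩) (y := x)
      (Or.inr (Or.inr rfl))
      (ty_conj hS hψ (x := ⟨⟨g * z * g⁻¹, hgc⟩, hgQ⟩) (isConj_iff.2 ⟨g, rfl⟩) hgz) h
    refine hc (isConj_iff.2 ⟨c * g, ?_⟩)
    show c * g * z * (c * g)⁻¹ = val x
    rw [show val x = c * (g * z * g⁻¹) * c⁻¹ from hce.symm]
    group

/-- The lift of the standard frame: the other extraspecial group meets `Q` in the flat classes. -/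
theorem exists_frame_data : ∃ g : G, g * z * g⁻¹ ∈ bigQ Q ∧ g * z * g⁻¹ ≠ z ∧
    ∃ (e' : (Subgroup.centralizer ({z} : Set G)) ⧸ Q ≃* Cfsg.Spor.Co1)
      (ψ' : Cfsg.leechLattice → Q ⧸ Subgroup.center Q), Cfsg.IsLeechModTwoIso Q e' ψ' ∧
      (∀ xs : Q, val xs = g * z * g⁻¹ → ψ' (frame none) = QuotientGroup.mk xs) ∧
      (imgC Q (g * z * g⁻¹)).map e'.toMonoidHom = crossStab.map toCo1 ∧
      (imgQ Q g).map e'.toMonoidHom = signSub.map toCo1 := by
  obtain ⟨g, hgQ', hgz⟩ := hS.2.2.2.2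
  obtain ⟨hC, hxQ⟩ := hgQ'
  set x : Q := ⟨⟨g * z * g⁻¹, hC⟩, hxQ⟩ with hxdef
  have hgQ : g * z * g⁻¹ ∈ bigQ Q := ⟨_, hxQ, rfl⟩
  obtain ⟨v, hv, hvx⟩ := ty_conj hS hψ (x := x) (isConj_iff.2 ⟨g, rfl⟩) hgz
  obtain ⟨g₀, hg₀⟩ := Cfsg.Agent.LeechAut.Shells.transitive64 v (frame none) hv (sqNorm_frame none)
  have hψ' := twist hψ g₀
  set e' := e.trans (MulAut.conj (toCo1 g₀))
  have hvx' : (fun u => ψ (g₀⁻¹ • u)) (frame none) = QuotientGroup.mk x := by
    show ψ (g₀⁻¹ • frame none) = _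
    rw [← hg₀, inv_smul_smul, hvx]
  have hxc : x ∉ Subgroup.center Q := Ty.notMem_center hψ ⟨v, hv, hvx⟩ (by norm_num) le_rfl
  have hX : (imgC Q (g * z * g⁻¹)).map e'.toMonoidHom = crossStab.map toCo1 := by
    rw [← clsStab_frame]; exact imgC_eq hS hψ' hxc hvx'
  refine ⟨g, hgQ, hgz, e', _, hψ', fun xs h => ?_, hX, ?_⟩
  · rw [show xs = x from Subtype.ext (Subtype.ext h)]; exact hvx'
  have hle : (imgQ Q g).map e'.toMonoidHom ≤ signSub.map toCo1 := by
    refine le_signs _ (hX ▸ Subgroup.map_mono (imgQ_le hS hgQ hgz)) ?_ ?_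
    · intro k hk a ha
      obtain ⟨b, hb, rfl⟩ := ha
      obtain ⟨c, hc, hce⟩ : toCo1 k ∈ (imgC Q (g * z * g⁻¹)).map e'.toMonoidHom :=
        hX ▸ Subgroup.mem_map_of_mem toCo1 hk
      refine ⟨c * b * c⁻¹, imgQ_conj hS hgQ hgz c hc b hb, ?_⟩
      rw [map_mul, map_mul, map_inv, hce]
    · rintro _ ⟨b, hb, rfl⟩
      rw [← map_mul, imgQ_sq hS hgQ hgz b hb, map_one]
  haveI : Finite (signSub.map toCo1 : Subgroup Cfsg.Spor.Co1) := by
    haveI := finite_Co0
    infer_instance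
  refine Subgroup.eq_of_le_of_card_ge hle (card_signs.trans ?_)
  rw [Subgroup.card_map_of_injective e'.injective, (standard hS hψ hgQ hgz).2.1]

/-- The intersection of the two extraspecial groups consists of the flat classes. -/
theorem inter_flat {g : G} (hgQ : g * z * g⁻¹ ∈ bigQ Q) (hgz : g * z * g⁻¹ ≠ z) {xs : Q}
    (hxs : val xs = g * z * g⁻¹) (hfr : ψ (frame none) = QuotientGroup.mk xs)
    (hA : (imgQ Q g).map e.toMonoidHom = signSub.map toCo1) :
    (∀ (d : Finset Cfsg.GolayPt) (hd : d ∈ codeSets), ∃ y : Subgroup.centralizer ({z} : Set G),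
      (y : G) ∈ (bigQ Q).map (MulAut.conj g).toMonoidHom ∧
        toCo1 (sign d hd) = e (QuotientGroup.mk y)) ∧
    (∀ (x : Q) (v : Cfsg.leechLattice), val x ∈ (bigQ Q).map (MulAut.conj g).toMonoidHom →
      ψ v = QuotientGroup.mk x → Lattice.Flat v) ∧
    ∀ v : Cfsg.leechLattice, Lattice.Flat v →
      ∃ x : Q, val x ∈ (bigQ Q).map (MulAut.conj g).toMonoidHom ∧ ψ v = QuotientGroup.mk x := by
  classical
  set Q' := (bigQ Q).map (MulAut.conj g).toMonoidHom with hQ'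
  have P := Pair.mk' (ctr_bigQ hS) hgQ hgz
  have hzQ' : z ∈ Q' := P.z_mem' (by rw [card_bigQ, hS.2.2.2.1]; norm_num)
  have hsign : ∀ (d : Finset Cfsg.GolayPt) (hd : d ∈ codeSets),
      ∃ y : Subgroup.centralizer ({z} : Set G), (y : G) ∈ Q' ∧
        toCo1 (sign d hd) = e (QuotientGroup.mk y) := by
    intro d hd
    obtain ⟨_, ⟨y, hy, rfl⟩, he⟩ : toCo1 (sign d hd) ∈ (imgQ Q g).map e.toMonoidHom :=
      hA ▸ Subgroup.mem_map_of_mem toCo1 (sign_mem_signSub d hd)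
    exact ⟨y, (Subgroup.mem_subgroupOf.1 hy).1, he.symm⟩
  have hfix : ∀ (x : Q) (v : Cfsg.leechLattice), val x ∈ Q' → ψ v = QuotientGroup.mk x →
      Lattice.Flat v := by
    intro x v hx hv
    refine Lattice.flat_of_fixed v fun d hd => ?_
    obtain ⟨y, hy, hye⟩ := hsign d hd
    obtain ⟨x', hx', hx'e⟩ := conj_lift hψ y hye hv
    rcases P.h'.comm_cases hy hx with h | h
    · left
      refine cls_of_psi hψ (hx'e.trans (hv.trans ?_).symm)
      congr 1
      refine Subtype.ext (Subtype.ext ?_)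
      show val x = val x'
      rw [hx']
      exact (mul_inv_eq_iff_eq_mul.2 (commutatorElement_eq_one_iff_mul_comm.1 h)).symm
    · right
      have hxs' : x' = xs * x := by
        refine Subtype.ext (Subtype.ext ?_)
        show val x' = val xs * val x
        rw [hx', hxs, ← h, commutatorElement_def]; group
      refine cls_of_psi hψ ?_
      rw [hx'e, hxs', add_comm, hψ.1, hfr, hv]
      rfl
  refine ⟨hsign, hfix, ?_⟩
  let κ : Q →* G := (Subgroup.centralizer ({z} : Set G)).subtype.comp Q.subtype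
  have hκ : Function.Injective κ := Subtype.val_injective.comp Subtype.val_injective
  let Vq : Subgroup Q := (bigQ Q ⊓ Q').comap κ
  have hVcard : Nat.card Vq = 2 ^ 13 := by
    rw [← (standard hS hψ hgQ hgz).1, ← Subgroup.card_map_of_injective (K := Vq) hκ,
      Subgroup.map_comap_eq_self]
    exact inf_le_left.trans (fun u hu => by obtain ⟨hc, hm⟩ := mem_bigQ.1 hu; exact ⟨⟨_, hm⟩, rfl⟩)
  have hcen : Subgroup.center Q ≤ Vq := by
    intro c hc
    refine Subgroup.mem_inf.2 ⟨val_mem c, ?_⟩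
    rcases (mem_center_iff' hS).1 hc with h | h
    · show val c ∈ Q'
      rw [show val c = 1 from h]; exact one_mem _
    · show val c ∈ Q'
      rw [show val c = z from h]; exact hzQ'
  let W := Vq.map (QuotientGroup.mk' (Subgroup.center Q))
  have hW : Nat.card W = 2 ^ 12 := by
    have h1 := Subgroup.card_mul_index ((Subgroup.center Q).subgroupOf Vq)
    rw [Nat.card_congr (Subgroup.subgroupOfEquivOfLe hcen).toEquiv, hS.2.2.1.2, hVcard] at h1
    have h2 : (QuotientGroup.mk' (Subgroup.center Q)).ker.relIndex Vq = Nat.card W := by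
      rw [Subgroup.relIndex_ker]
    rw [QuotientGroup.ker_mk', Subgroup.relIndex] at h2
    omega
  have hpre : ∀ a : W, ∃ v : Cfsg.leechLattice, Lattice.Flat v ∧ ψ v = a.1 := by
    rintro ⟨_, x, hx, rfl⟩
    obtain ⟨v, hv⟩ := hψ.2.1 (QuotientGroup.mk x)
    exact ⟨v, hfix x v (Subgroup.mem_inf.1 hx).2 hv, hv⟩
  choose vv hflat hvv using hpre
  let Φ : W → Lattice.flatCls := fun a => ⟨cls (vv a), Lattice.cls_mem_flatCls (hflat a)⟩
  have hΦ : Function.Injective Φ := fun a b h => by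
    apply Subtype.ext
    rw [← hvv a, ← hvv b]
    exact psi_congr hψ (congrArg Subtype.val h)
  haveI : Finite Lattice.flatCls := Nat.finite_of_card_ne_zero (by rw [Lattice.card_flatCls]; norm_num)
  have hbij : Function.Bijective Φ :=
    hΦ.bijective_of_nat_card_le (by rw [Lattice.card_flatCls, hW])
  intro v hv
  obtain ⟨a, ha⟩ := hbij.2 ⟨cls v, Lattice.cls_mem_flatCls hv⟩
  obtain ⟨x, hx, hxa⟩ := a.2
  refine ⟨x, (Subgroup.mem_inf.1 hx).2, ?_⟩
  rw [← psi_congr hψ (congrArg Subtype.val ha : cls (vv a) = cls v), hvv a, ← hxa]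
  rfl

end

theorem cls_U_perm (σ : Cfsg.M24) (a b : Cfsg.GolayPt) :
    permHom σ • U a b = U ((σ : Equiv.Perm Cfsg.GolayPt) a) ((σ : Equiv.Perm Cfsg.GolayPt) b) := by
  refine Subtype.ext (funext fun i => ?_)
  rw [permHom_smul, U_apply, U_apply]
  simp only [Equiv.Perm.inv_eq_iff_eq]

/-- An involution of type 32 commutes with an element that moves `z` inside the group `Q`. -/
theorem exists_move (hS : Cfsg.IsExtraspecialCentralizerSetting z Q 12)
    (hψ : Cfsg.IsLeechModTwoIso Q e ψ) : ∃ x : Q, Ty ψ x 32 ∧ ∃ h : G,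
      h * val x * h⁻¹ = val x ∧ h * z * h⁻¹ ∈ bigQ Q ∧ h * z * h⁻¹ ≠ z ∧
      (h * z * h⁻¹) * val x = val x * (h * z * h⁻¹) := by
  classical
  obtain ⟨g, hgQ, hgz, e', ψ', hψ', hfr', hX, hA⟩ := exists_frame_data hS hψ
  obtain ⟨hsC, hsQ⟩ := mem_bigQ.1 hgQ
  set xs : Q := ⟨⟨g * z * g⁻¹, hsC⟩, hsQ⟩
  set s := g * z * g⁻¹ with hs
  set Q' := (bigQ Q).map (MulAut.conj g).toMonoidHom with hQ'
  have hfr : ψ' (frame none) = QuotientGroup.mk xs := hfr' xs rfl
  obtain ⟨hsign, hfix, hlift⟩ := inter_flat hS hψ' hgQ hgz (xs := xs) rfl hfr hA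
  have P : Pair (bigQ Q) Q' z s := Pair.mk' (ctr_bigQ hS) hgQ hgz
  have hzQ' : z ∈ Q' := P.z_mem' (by rw [card_bigQ, hS.2.2.2.1]; norm_num)
  have hzz := (ctr_bigQ hS).zz
  -- the element of type 32
  have hab : (none : Cfsg.GolayPt) ≠ some 0 := by simp
  obtain ⟨x₀, hx₀Q', hx₀⟩ := hlift _ (Lattice.U_flat none (some 0))
  have hty' : Ty ψ' x₀ 32 := ⟨_, Lattice.sqNorm_U hab, hx₀⟩
  have hnc : ¬ IsConj z (val x₀) := not_conj_of_ty32 hS hψ' hty'
  have hx1 : val x₀ ≠ 1 := fun h => hty'.notMem_center hψ' (by norm_num) (by norm_num)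
    ((mem_center_iff' hS).2 (Or.inl h))
  have hx2 : val x₀ * val x₀ = 1 := by
    have := (sq_iff hS.2.2.1 hψ' (by rw [hS.2.2.2.1]; norm_num) hx₀).2
      (by rw [Lattice.sqNorm_U hab])
    exact congrArg val this
  refine ⟨x₀, ty32_of_invol hS hψ hx1 hx2 hnc, ?_⟩
  have hxs : val x₀ * s = s * val x₀ := P.h'.comm hx₀Q'
  -- an element exchanging `z` and `s`
  obtain ⟨hbC, hbQ⟩ := mem_bigQ.1 (show g⁻¹ * z * g ∈ bigQ Q by
    have := hzQ'
    rwa [hQ', mem_map_equiv, MulAut.conj_symm_apply] at this)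
  have hbz : g⁻¹ * z * g ≠ z := by
    intro h
    apply hgz
    calc g * z * g⁻¹ = g * (g⁻¹ * z * g) * g⁻¹ := by rw [h]
      _ = z := by group
  obtain ⟨c, hcC, hcb⟩ := conj_of_ty hS hψ' (x := ⟨⟨_, hbC⟩, hbQ⟩) (y := xs) (Or.inr (Or.inr rfl))
    (ty_conj hS hψ' (x := ⟨⟨_, hbC⟩, hbQ⟩) (isConj_iff.2 ⟨g⁻¹, by simp⟩) hbz)
    (ty_conj hS hψ' (x := xs) (isConj_iff.2 ⟨g, rfl⟩) hgz)
  replace hcb : c * (g⁻¹ * z * g) * c⁻¹ = s := hcb
  have hcz : c⁻¹ * z * c = z := by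
    rw [mul_assoc, ← mem_centralizer_singleton_iff.1 hcC, inv_mul_cancel_left]
  let k := g * c⁻¹
  have hkz : k * z * k⁻¹ = s := by
    calc k * z * k⁻¹ = g * (c⁻¹ * z * c) * g⁻¹ := by simp only [k]; group
      _ = s := by rw [hcz]
  have hks : k * s * k⁻¹ = z := by
    calc k * s * k⁻¹ = g * (c⁻¹ * s * c) * g⁻¹ := by simp only [k]; group
      _ = z := by rw [← hcb]; group
  have hu' : k * val x₀ * k⁻¹ ∈ Q' := by
    rw [P.link k hkz, show k⁻¹ * (k * val x₀ * k⁻¹) * k = val x₀ by group]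
    exact val_mem x₀
  have hu : k * val x₀ * k⁻¹ ∈ bigQ Q := by
    have h1 := (P.link k hkz _).1 hx₀Q'
    have hkk : k * k * z = z * (k * k) := by
      calc k * k * z = k * (k * z * k⁻¹) * k⁻¹ * (k * k) := by group
        _ = z * (k * k) := by rw [hkz, hks]
    have := (ctr_bigQ hS).conj_mem hkk h1
    rwa [show k * k * (k⁻¹ * val x₀ * k) * (k * k)⁻¹ = k * val x₀ * k⁻¹ by group] at this
  obtain ⟨huC, huQ⟩ := mem_bigQ.1 hu
  set u : Q := ⟨⟨k * val x₀ * k⁻¹, huC⟩, huQ⟩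
  have htu : Ty ψ' u 32 := by
    refine ty32_of_invol hS hψ' (x := u) ?_ ?_ ?_
    · intro h
      exact hx1 (by
        calc val x₀ = k⁻¹ * (k * val x₀ * k⁻¹) * k := by group
          _ = 1 := by rw [show k * val x₀ * k⁻¹ = 1 from h]; group)
    · show k * val x₀ * k⁻¹ * (k * val x₀ * k⁻¹) = 1
      rw [show k * val x₀ * k⁻¹ * (k * val x₀ * k⁻¹) = k * (val x₀ * val x₀) * k⁻¹ by group, hx2]
      group
    · exact fun h => hnc (h.trans (isConj_iff.2 ⟨k⁻¹, by show k⁻¹ * (k * val x₀ * k⁻¹) * k⁻¹⁻¹ = _; group⟩))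
  obtain ⟨wv, hwn, hwu⟩ := htu
  obtain ⟨a, b, hab', hwab⟩ := Lattice.short_flat (hfix u wv hu' hwu) hwn rfl
  obtain ⟨σ', hσ', hσmap⟩ := Cfsg.Agent.Golay.M24.exists_map_tuple (by norm_num : 2 ≤ 5)
    ⟨![a, b], inj_two hab'⟩ ⟨![none, some 0], inj_two hab⟩
  let σ : Cfsg.M24 := ⟨σ', hσ'⟩
  have hσU : permHom σ • U a b = U none (some 0) := by
    rw [cls_U_perm, show (σ : Equiv.Perm Cfsg.GolayPt) a = none from hσmap 0,
      show (σ : Equiv.Perm Cfsg.GolayPt) b = some 0 from hσmap 1]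
  have hσF : cls (permHom σ • frame none) = cls (frame none) := by
    have : permHom σ ∈ clsStab (frame none) := clsStab_frame ▸ permHom_mem σ
    exact this
  obtain ⟨_, ⟨r, hr, rfl⟩, hre⟩ : toCo1 (permHom σ) ∈ (imgC Q s).map e'.toMonoidHom :=
    hX ▸ Subgroup.mem_map_of_mem toCo1 (permHom_mem σ)
  obtain ⟨hrz, hrs⟩ := Subgroup.mem_subgroupOf.1 hr
  obtain ⟨u', hu'v, hu'e⟩ := conj_lift hψ' r hre.symm hwu
  replace hu'v : val u' = (r : G) * (k * val x₀ * k⁻¹) * (r : G)⁻¹ := hu'v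
  have hcases : val u' = val x₀ ∨ val u' = z * val x₀ ∨ val u' = s * val x₀ ∨
      val u' = z * (s * val x₀) := by
    rcases hwab with h | h
    · have hc : cls (U none (some 0)) = cls (permHom σ • wv) := by
        rw [← hσU]; exact (cls_smul _ h).symm
      rcases eq_mul_of_cls hS hψ' hx₀ hu'e hc with e1 | e1
      exacts [Or.inl e1, Or.inr (Or.inl e1)]
    · have hmul : ψ' (frame none + U none (some 0)) = QuotientGroup.mk (xs * x₀) := by
        rw [hψ'.1, hfr, hx₀]; rfl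
      have hc : cls (frame none + U none (some 0)) = cls (permHom σ • wv) := by
        rw [cls_smul _ h, smul_add', hσU, add_comm (frame none)]
        show QuotientAddGroup.mk _ = QuotientAddGroup.mk _
        rw [QuotientAddGroup.mk_add, QuotientAddGroup.mk_add]
        exact congrArg _ hσF.symm
      rcases eq_mul_of_cls hS hψ' hmul hu'e hc with e1 | e1
      exacts [Or.inr (Or.inr (Or.inl e1)), Or.inr (Or.inr (Or.inr e1))]
  -- corrections
  obtain ⟨o, ho, hoa, hob⟩ := Lattice.exists_octad_sep hab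
  let v₁ : Cfsg.leechLattice := ⟨twoInd o, (twoInd_mem ho).1⟩
  obtain ⟨q₁, hq₁⟩ := QuotientGroup.mk_surjective (ψ' v₁)
  have hv₁ : (v₁ : Cfsg.GolayPt → ℤ) none = 2 ∧ (v₁ : Cfsg.GolayPt → ℤ) (some 0) = 0 := by
    simp [v₁, twoInd, ind, hoa, hob]
  have hq₁z : val q₁ * z * (val q₁)⁻¹ = z := (ctr_bigQ hS).conj_z (val_mem q₁)
  have hq₁s : val q₁ * s * (val q₁)⁻¹ = s := by
    have : val q₁ * val xs = val xs * val q₁ := by
      rw [val_comm_iff hS hψ' hq₁.symm hfr, Lattice.dot_frame, hv₁.1]; norm_num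
    rw [show s = val xs from rfl, this, mul_inv_cancel_right]
  have hq₁x : val q₁ * val x₀ * (val q₁)⁻¹ = z * val x₀ := by
    rcases (ctr_bigQ hS).comm_cases (val_mem q₁) (val_mem x₀) with h | h
    · exfalso
      have := (val_comm_iff hS hψ' hq₁.symm hx₀).1 (commutatorElement_eq_one_iff_mul_comm.1 h)
      rw [Lattice.dot_U, hv₁.1, hv₁.2] at this
      norm_num at this
    · exact mul_inv_eq_iff_eq_mul.1 h
  obtain ⟨q₂, hq₂, hq₂e⟩ := hsign o (octad_mem_supports ho)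
  have hq₂z : (q₂ : G) * z * (q₂ : G)⁻¹ = z := by
    rw [mem_centralizer_singleton_iff.1 q₂.2, mul_inv_cancel_right]
  have hq₂s : (q₂ : G) * s * (q₂ : G)⁻¹ = s := P.h'.conj_z hq₂
  have hflip : cls (sign o (octad_mem_supports ho) • U none (some 0)) =
      cls (U none (some 0) + frame none) := by
    rw [cls_eq_iff]
    refine ⟨-frame none, Subtype.ext (funext fun i => ?_)⟩
    have h2 : ((sign o (octad_mem_supports ho) • U none (some 0) : Cfsg.leechLattice) :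
        Cfsg.GolayPt → ℤ) i = if i ∈ o then -(U none (some 0) : Cfsg.GolayPt → ℤ) i
          else (U none (some 0) : Cfsg.GolayPt → ℤ) i := rfl
    simp only [AddSubgroup.coe_sub, AddSubgroup.coe_add, AddSubgroup.coe_neg, Pi.sub_apply,
      Pi.add_apply, Pi.neg_apply, h2, U_apply, frame_coe, Pi.single_apply]
    rcases eq_or_ne i none with rfl | h0
    · simp [hoa]
    rcases eq_or_ne i (some 0) with rfl | h1
    · simp [hob]
    · simp [h0, h1]
  have hq₂x : (q₂ : G) * val x₀ * (q₂ : G)⁻¹ = s * val x₀ := by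
    rcases P.h'.comm_cases hq₂ hx₀Q' with h | h
    · exfalso
      obtain ⟨y, hy, hye⟩ := conj_lift hψ' q₂ hq₂e hx₀
      rw [mul_inv_eq_iff_eq_mul.2 (commutatorElement_eq_one_iff_mul_comm.1 h)] at hy
      have e1 : cls (sign o (octad_mem_supports ho) • U none (some 0)) = cls (U none (some 0)) := by
        refine cls_of_psi hψ' ?_
        rw [hye, hx₀, show y = x₀ from Subtype.ext (Subtype.ext hy)]
      rw [hflip, cls_eq_iff] at e1
      obtain ⟨n, hn⟩ := e1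
      rw [add_sub_cancel_left] at hn
      have h64 := sqNorm_frame none
      rw [hn, sqNorm_double] at h64
      have := Cfsg.Agent.Leech.Basic.min_norm n.2 (fun h0 => by simp [h0, Cfsg.sqNorm] at h64)
      omega
    · exact mul_inv_eq_iff_eq_mul.1 h
  obtain ⟨d, hdz, hds, hdx⟩ : ∃ d : G, d * z * d⁻¹ = z ∧ d * s * d⁻¹ = s ∧
      d * val u' * d⁻¹ = val x₀ := by
    have e2 : ∀ (d y : G), d * (s * y) * d⁻¹ = (d * s * d⁻¹) * (d * y * d⁻¹) := fun d y => by group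
    have e3 : ∀ (d y : G), d * (z * y) * d⁻¹ = (d * z * d⁻¹) * (d * y * d⁻¹) := fun d y => by group
    have hsx : s * (s * val x₀) = val x₀ := by rw [← mul_assoc, P.h'.zz, one_mul]
    have hzx : z * (z * val x₀) = val x₀ := by rw [← mul_assoc, hzz, one_mul]
    rcases hcases with h | h | h | h
    · exact ⟨1, by group, by group, by rw [h]; group⟩
    · exact ⟨val q₁, hq₁z, hq₁s, by rw [h, e3, hq₁z, hq₁x, hzx]⟩
    · exact ⟨q₂, hq₂z, hq₂s, by rw [h, e2, hq₂s, hq₂x, hsx]⟩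
    · refine ⟨val q₁ * (q₂ : G), ?_, ?_, ?_⟩
      · calc val q₁ * (q₂ : G) * z * (val q₁ * (q₂ : G))⁻¹
            = val q₁ * ((q₂ : G) * z * (q₂ : G)⁻¹) * (val q₁)⁻¹ := by group
          _ = z := by rw [hq₂z, hq₁z]
      · calc val q₁ * (q₂ : G) * s * (val q₁ * (q₂ : G))⁻¹
            = val q₁ * ((q₂ : G) * s * (q₂ : G)⁻¹) * (val q₁)⁻¹ := by group
          _ = s := by rw [hq₂s, hq₁s]
      · rw [h]
        calc val q₁ * (q₂ : G) * (z * (s * val x₀)) * (val q₁ * (q₂ : G))⁻¹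
            = val q₁ * ((q₂ : G) * (z * (s * val x₀)) * (q₂ : G)⁻¹) * (val q₁)⁻¹ := by group
          _ = val x₀ := by rw [e3, e2, hq₂z, hq₂s, hq₂x, hsx, e3, hq₁z, hq₁x, hzx]
  have hrz' : (r : G) * z * (r : G)⁻¹ = z := by
    rw [mem_centralizer_singleton_iff.1 hrz, mul_inv_cancel_right]
  have hrs' : (r : G) * s * (r : G)⁻¹ = s := by
    rw [mem_centralizer_singleton_iff.1 hrs, mul_inv_cancel_right]
  have hmz : d * ((r : G) * k) * z * (d * ((r : G) * k))⁻¹ = s := by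
    calc d * ((r : G) * k) * z * (d * ((r : G) * k))⁻¹
        = d * ((r : G) * (k * z * k⁻¹) * (r : G)⁻¹) * d⁻¹ := by group
      _ = s := by rw [hkz, hrs', hds]
  refine ⟨d * ((r : G) * k), ?_, hmz ▸ hgQ, hmz ▸ hgz, ?_⟩
  · calc d * ((r : G) * k) * val x₀ * (d * ((r : G) * k))⁻¹
        = d * ((r : G) * (k * val x₀ * k⁻¹) * (r : G)⁻¹) * d⁻¹ := by group
      _ = val x₀ := by rw [← hu'v, hdx]
  · rw [hmz, hxs]

end Cfsg.Agent.MonsterBaby
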